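import Groth.Prelude.Def_EGA41
import Mathlib.RingTheory.Smooth.Local
import Mathlib.RingTheory.Smooth.Basic
import Mathlib.RingTheory.Filtration
import Mathlib.RingTheory.LocalRing.Module
import Mathlib.RingTheory.RingHom.EssFiniteType

/-! Formal smoothness for adic topologies vs. discrete topologies, for local algebras
essentially of finite type over Noetherian local rings (Jacobian criterion). -/

set_option autoImplicit false

universe u

open TensorProduct IsLocalRing

namespace Groth.Agent.FSAdicDiscrete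

theorem isFormallySmoothAdic_of_formallySmooth (A B : Type u) [CommRing A] [CommRing B] [Algebra A B]
    (𝔞 : Ideal A) (𝔟 : Ideal B) [Algebra.FormallySmooth A B] :
    EGA41.IsFormallySmoothAdic A 𝔞 B 𝔟 := by
  intro C _ _ J hJ _ u _
  exact Algebra.FormallySmooth.exists_lift J hJ u

variable {A B P : Type u} [CommRing A] [CommRing B] [CommRing P]
  [Algebra A B] [Algebra A P] [Algebra P B] [IsScalarTower A P B]

/-- Artin–Rees step. -/
theorem mem_of_mem_sup {P : Type u} [CommRing P] (m I : Ideal P) (c : ℕ)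
    (hc : ∀ n ≥ c, m ^ n • (⊤ : Submodule P P) ⊓ (I : Submodule P P) =
      m ^ (n - c) • (m ^ c • (⊤ : Submodule P P) ⊓ (I : Submodule P P)))
    {i : P} (hi : i ∈ I) (h1 : i ∈ m * I ⊔ m ^ (c + 1)) : i ∈ m * I := by
  obtain ⟨a, ha, b, hb, hab⟩ := Submodule.mem_sup.1 h1
  have hbI : b ∈ I := by
    have hb' : b = i - a := by rw [← hab]; ring
    rw [hb']
    exact sub_mem hi (Ideal.mul_le_right ha)
  have h2 : b ∈ m * I := by
    have hmem : b ∈ m ^ (c + 1) • (⊤ : Submodule P P) ⊓ (I : Submodule P P) :=
      ⟨by rw [smul_eq_mul, Ideal.mul_top]; exact hb, hbI⟩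
    rw [hc (c + 1) (Nat.le_succ c), Nat.add_sub_cancel_left, pow_one] at hmem
    have h4 : m • (m ^ c • (⊤ : Submodule P P) ⊓ (I : Submodule P P)) ≤ m • (I : Submodule P P) :=
      Submodule.smul_mono le_rfl inf_le_right
    exact h4 hmem
  rw [← hab]
  exact add_mem ha h2

/-- If `B = P ⧸ I` is adically formally smooth, every element of `I` whose differential lies in
`m • Ω` lies in `m • I`. -/
theorem mem_smul_of_kaehler_mem [IsLocalRing A] [IsLocalRing P] [IsLocalRing B] [IsNoetherianRing P]
    [IsLocalHom (algebraMap A P)]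
    (hsurj : Function.Surjective (algebraMap P B))
    (h : EGA41.IsFormallySmoothAdic A (maximalIdeal A) B (maximalIdeal B))
    (i : P) (hi : i ∈ RingHom.ker (algebraMap P B))
    (hd : KaehlerDifferential.D A P i ∈ maximalIdeal P • (⊤ : Submodule P (KaehlerDifferential A P))) :
    i ∈ maximalIdeal P * RingHom.ker (algebraMap P B) := by
  set I := RingHom.ker (algebraMap P B) with hIdef
  set m := maximalIdeal P with hmdef
  have hIm : I ≤ m := IsLocalRing.le_maximalIdeal (RingHom.ker_ne_top _)
  obtain ⟨c, hc⟩ := Ideal.exists_pow_inf_eq_pow_smul m (I : Submodule P P)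
  let n := c + 1
  let N : Ideal P := m * I ⊔ m ^ n
  let C := P ⧸ N
  let J : Ideal C := (I ⊔ m ^ n).map (Ideal.Quotient.mk N)
  have hJ2 : J ^ 2 = ⊥ := by
    rw [← Ideal.map_pow, Ideal.map_eq_bot_iff_le_ker, Ideal.mk_ker, pow_two, Ideal.sup_mul,
      Ideal.mul_sup, Ideal.mul_sup]
    refine sup_le (sup_le ?_ ?_) (sup_le ?_ ?_)
    · exact le_sup_of_le_left (Ideal.mul_mono_left hIm)
    · exact le_sup_of_le_right Ideal.mul_le_right
    · exact le_sup_of_le_right Ideal.mul_le_left
    · exact le_sup_of_le_right Ideal.mul_le_left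
  let π : P →ₐ[A] C ⧸ J := (Ideal.Quotient.mkₐ A J).comp (Ideal.Quotient.mkₐ A N)
  let q : P →ₐ[A] B := IsScalarTower.toAlgHom A P B
  have hq : Function.Surjective q := hsurj
  have hπ : ∀ x ∈ I ⊔ m ^ n, π x = 0 := fun x hx =>
    Ideal.Quotient.eq_zero_iff_mem.2 (Ideal.mem_map_of_mem _ hx)
  let u : B →ₐ[A] C ⧸ J := AlgHom.liftOfSurjective q hq π
    (fun x hx => hπ x (Ideal.mem_sup_left hx))
  have hu : ∀ x, u (q x) = π x := fun x => AlgHom.liftOfSurjective_apply ..
  have hcont : ∃ k : ℕ, (maximalIdeal A ^ k).map (algebraMap A C) = ⊥ := by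
    refine ⟨n, ?_⟩
    rw [IsScalarTower.algebraMap_eq A P C, ← Ideal.map_map, Ideal.map_eq_bot_iff_le_ker,
      Ideal.Quotient.algebraMap_eq, Ideal.mk_ker, Ideal.map_pow]
    refine le_sup_of_le_right (Ideal.pow_right_mono ?_ n)
    exact Ideal.map_le_iff_le_comap.2 (fun a ha => (IsLocalRing.mem_maximalIdeal _).2
      (map_nonunit (algebraMap A P) a ha))
  have hucont : ∃ k : ℕ, ∀ x ∈ maximalIdeal B ^ k, u x = 0 := by
    refine ⟨n, fun x hx => ?_⟩
    have hmB : maximalIdeal B ≤ m.map (algebraMap P B) := by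
      intro y hy
      obtain ⟨z, rfl⟩ := hsurj y
      refine Ideal.mem_map_of_mem _ ((IsLocalRing.mem_maximalIdeal _).2 ?_)
      exact fun hz => (IsLocalRing.mem_maximalIdeal _).1 hy (hz.map _)
    have hx' := (Ideal.pow_right_mono hmB n) hx
    rw [← Ideal.map_pow] at hx'
    obtain ⟨z, hz, rfl⟩ := (Ideal.mem_map_iff_of_surjective _ hsurj).1 hx'
    exact (hu z).trans (hπ z (Ideal.mem_sup_right hz))
  obtain ⟨v, hv⟩ := h C J ⟨2, hJ2⟩ hcont u hucont
  let D := derivationToSquareZeroOfLift J hJ2 (v.comp q) (by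
    refine AlgHom.ext fun x => ?_
    exact (congr($hv (q x))).trans ((hu x).trans rfl))
  have hJm : ∀ r ∈ m, ∀ y : J, r • y = 0 := by
    rintro r hr ⟨y, hy⟩
    obtain ⟨z, hz, rfl⟩ := (Ideal.mem_map_iff_of_surjective _ Ideal.Quotient.mk_surjective).1 hy
    refine Subtype.ext ?_
    change r • (Ideal.Quotient.mk N z) = 0
    rw [Algebra.smul_def, Ideal.Quotient.algebraMap_eq, ← map_mul, Ideal.Quotient.eq_zero_iff_mem]
    obtain ⟨a, ha, b, hb, rfl⟩ := Submodule.mem_sup.1 hz
    rw [mul_add]
    exact add_mem (Ideal.mem_sup_left (Ideal.mul_mem_mul hr ha))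
      (Ideal.mem_sup_right (Ideal.mul_mem_left _ r hb))
  have hDi : D.liftKaehlerDifferential (KaehlerDifferential.D A P i) = 0 := by
    refine Submodule.smul_induction_on (p := fun ω => D.liftKaehlerDifferential ω = 0) hd
      (fun r hr y _ => ?_) (fun a b ha hb => ?_)
    · rw [map_smul]; exact hJm r hr _
    · rw [map_add, ha, hb, add_zero]
  rw [Derivation.liftKaehlerDifferential_comp_D] at hDi
  have h1 : v (q i) - algebraMap P C i = 0 := congrArg Subtype.val hDi
  have hqi : q i = 0 := hi
  rw [hqi, map_zero, zero_sub, neg_eq_zero, Ideal.Quotient.algebraMap_eq,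
    Ideal.Quotient.eq_zero_iff_mem] at h1
  exact mem_of_mem_sup m I c hc hi h1

/-- A presentation of a local algebra essentially of finite type as a quotient of a localized
polynomial ring. -/
theorem exists_presentation (A B : Type u) [CommRing A] [CommRing B] [IsLocalRing B] [Algebra A B]
    [Algebra.EssFiniteType A B] :
    ∃ (n : ℕ) (q : Ideal (MvPolynomial (Fin n) A)) (_ : q.IsPrime)
      (φ : Localization.AtPrime q →ₐ[A] B), Function.Surjective φ := by
  let S := Algebra.EssFiniteType.subalgebra A B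
  obtain ⟨n, ψ, hψ⟩ := Algebra.FiniteType.iff_quotient_mvPolynomial''.1
    (inferInstance : Algebra.FiniteType A S)
  let g : MvPolynomial (Fin n) A →ₐ[A] B := S.val.comp ψ
  let q := (maximalIdeal B).comap g
  have hu : ∀ y : q.primeCompl, IsUnit (g y) := fun y => IsLocalRing.notMem_maximalIdeal.1 y.2
  refine ⟨n, q, inferInstance, IsLocalization.liftAlgHom (M := q.primeCompl) hu, fun b => ?_⟩
  obtain ⟨⟨s, t⟩, hst⟩ := IsLocalization.surj (Algebra.EssFiniteType.submonoid A B) b
  obtain ⟨s', rfl⟩ := hψ s
  obtain ⟨t', ht'⟩ := hψ (t : S)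
  have htunit : IsUnit (algebraMap S B t) := IsLocalization.map_units B t
  have hgt : g t' = algebraMap S B t := congrArg Subtype.val ht'
  have htq : t' ∈ q.primeCompl := fun hmem =>
    (IsLocalRing.mem_maximalIdeal _).1 hmem (show IsUnit (g t') from hgt ▸ htunit)
  refine ⟨IsLocalization.mk' _ s' (⟨t', htq⟩ : q.primeCompl), ?_⟩
  rw [IsLocalization.coe_liftAlgHom, IsLocalization.lift_mk'_spec]
  change g s' = g t' * b
  rw [hgt, mul_comm]
  exact hst.symm

theorem formallySmooth_of_isFormallySmoothAdic (A B : Type u) [CommRing A] [CommRing B]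
    [IsLocalRing A] [IsLocalRing B] [IsNoetherianRing A] [Algebra A B] [IsLocalHom (algebraMap A B)]
    [Algebra.EssFiniteType A B]
    (h : EGA41.IsFormallySmoothAdic A (maximalIdeal A) B (maximalIdeal B)) :
    Algebra.FormallySmooth A B := by
  obtain ⟨n, q, hq, φ, hφ⟩ := exists_presentation A B
  let P := Localization.AtPrime q
  let : Algebra P B := φ.toRingHom.toAlgebra
  have : IsScalarTower A P B := IsScalarTower.of_algHom φ
  have : IsLocalHom (algebraMap A P) := ⟨fun a ha => by
    have h' := ha.map φ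
    rw [AlgHom.commutes] at h'
    exact IsUnit.of_map (algebraMap A B) a h'⟩
  have : Algebra.FormallySmooth A P := by
    have : Algebra.FormallySmooth (MvPolynomial (Fin n) A) P :=
      Algebra.FormallySmooth.of_isLocalization q.primeCompl
    exact Algebra.FormallySmooth.comp A (MvPolynomial (Fin n) A) P
  have : Algebra.EssFiniteType (MvPolynomial (Fin n) A) P :=
    Algebra.EssFiniteType.of_isLocalization P q.primeCompl
  have : Algebra.EssFiniteType A P := Algebra.EssFiniteType.comp A (MvPolynomial (Fin n) A) P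
  have : IsNoetherianRing P := IsLocalization.isNoetherianRing q.primeCompl _ inferInstance
  have : Module.Free P (KaehlerDifferential A P) := Module.free_of_flat_of_isLocalRing
  have hsurj : Function.Surjective (algebraMap P B) := hφ
  refine (Algebra.FormallySmooth.iff_injective_cotangentComplexBaseChange_residueField P hsurj
    (IsNoetherian.noetherian _)).2 ?_
  have : IsScalarTower P B (ResidueField B) := inferInstance
  have hsurjk : Function.Surjective (algebraMap P (ResidueField B)) := by
    rw [IsScalarTower.algebraMap_eq P B (ResidueField B)]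
    exact IsLocalRing.residue_surjective.comp hsurj
  have hker : ∀ r ∈ maximalIdeal P, algebraMap P (ResidueField B) r = 0 := by
    intro r hr
    rw [IsScalarTower.algebraMap_apply P B (ResidueField B), IsLocalRing.ResidueField.algebraMap_eq,
      IsLocalRing.residue_eq_zero_iff]
    intro hu
    obtain ⟨z, hz⟩ := hsurj (hu.unit⁻¹ : Bˣ)
    have h1 : algebraMap P B (r * z) = 1 := by rw [map_mul, hz, IsUnit.mul_val_inv]
    have h2 : r * z ∈ maximalIdeal P := Ideal.mul_mem_right _ _ hr
    have h3 : 1 - r * z ∈ RingHom.ker (algebraMap P B) := by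
      rw [RingHom.mem_ker, map_sub, map_one, h1, sub_self]
    have h4 := IsLocalRing.le_maximalIdeal (RingHom.ker_ne_top _) h3
    exact (IsLocalRing.maximalIdeal.isMaximal P).ne_top
      ((Ideal.eq_top_iff_one _).2 (by simpa using add_mem h4 h2))
  rw [injective_iff_map_eq_zero]
  intro ξ hξ
  have hone : ∃ i : RingHom.ker (algebraMap P B), ξ = 1 ⊗ₜ i := by
    clear hξ
    induction ξ using TensorProduct.induction_on with
    | zero => exact ⟨0, by simp⟩
    | tmul c i =>
      obtain ⟨r, rfl⟩ := hsurjk c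
      refine ⟨r • i, ?_⟩
      rw [Algebra.algebraMap_eq_smul_one]
      exact TensorProduct.smul_tmul r (1 : ResidueField B) i
    | add a b ha hb =>
      obtain ⟨i, rfl⟩ := ha; obtain ⟨j, rfl⟩ := hb
      exact ⟨i + j, by rw [TensorProduct.tmul_add]⟩
  obtain ⟨i, rfl⟩ := hone
  have hd : KaehlerDifferential.D A P (i : P) ∈
      maximalIdeal P • (⊤ : Submodule P (KaehlerDifferential A P)) := by
    have hk : Function.Injective
        (Ideal.Quotient.liftₐ (maximalIdeal P) (Algebra.ofId P (ResidueField B)) hker) := by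
      let := Ideal.Quotient.field (maximalIdeal P)
      exact RingHom.injective _
    let e := AlgEquiv.ofBijective (Ideal.Quotient.liftₐ (maximalIdeal P)
      (Algebra.ofId P (ResidueField B)) hker) ⟨hk, Ideal.Quotient.lift_surjective_of_surjective _ _ hsurjk⟩
    have h0 : (1 : ResidueField B) ⊗ₜ[P] KaehlerDifferential.D A P (i : P) = 0 := by
      rw [KaehlerDifferential.cotangentComplexBaseChange_tmul] at hξ
      simpa [KaehlerDifferential.kerToTensor_apply] using hξ
    have h1 := congr(TensorProduct.quotTensorEquivQuotSMul _ (maximalIdeal P)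
      (e.symm.toLinearEquiv.rTensor _ $h0))
    simp at h1
    exact h1
  have hmem := mem_smul_of_kaehler_mem (A := A) hsurj h (i : P) i.2 hd
  have hi' : i ∈ maximalIdeal P • (⊤ : Submodule P (RingHom.ker (algebraMap P B))) := by
    have h2 : (RingHom.ker (algebraMap P B) : Submodule P P).subtype i ∈ Submodule.map
        (RingHom.ker (algebraMap P B) : Submodule P P).subtype
        (maximalIdeal P • (⊤ : Submodule P (RingHom.ker (algebraMap P B)))) := by
      rw [Submodule.map_smul'', Submodule.map_top, Submodule.range_subtype]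
      exact hmem
    obtain ⟨j, hj, hji⟩ := h2
    rwa [← Subtype.ext hji]
  refine Submodule.smul_induction_on (p := fun j => (1 : ResidueField B) ⊗ₜ[P] j = 0) hi'
    (fun r hr y _ => ?_) (fun a b ha hb => ?_)
  · rw [← TensorProduct.smul_tmul, ← Algebra.algebraMap_eq_smul_one, hker r hr, TensorProduct.zero_tmul]
  · rw [TensorProduct.tmul_add, ha, hb, add_zero]

end Groth.Agent.FSAdicDiscrete
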