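import Groth.Prelude.Def_EGA41
import Mathlib.RingTheory.Ideal.Quotient.Nilpotent
import Mathlib.RingTheory.AdicCompletion.RingHom
import Mathlib.RingTheory.AdicCompletion.Noetherian

/-! Formal smoothness for adic topologies: reduction to square-zero ideals, composition, base change,
lifting to adically complete algebras. -/

set_option autoImplicit false

open TensorProduct

namespace Groth.Agent.FSAdic

universe u

variable {A B C : Type u} [CommRing A] [CommRing B] [CommRing C] [Algebra A B] [Algebra A C]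

lemma vanish_of_maps_into {m k : ℕ} {J : Ideal C} (hJ : J ^ m = ⊥) (v : B →+* C) (𝔟 : Ideal B)
    (h : ∀ x ∈ 𝔟 ^ k, v x ∈ J) : ∀ x ∈ 𝔟 ^ (k * m), v x = 0 := by
  intro x hx
  have h1 : (𝔟 ^ k).map v ≤ J := Ideal.map_le_iff_le_comap.mpr h
  have h2 : (𝔟 ^ (k * m)).map v ≤ J ^ m := by
    rw [pow_mul, Ideal.map_pow]
    exact Ideal.pow_right_mono h1 m
  have := h2 (Ideal.mem_map_of_mem v hx)
  rwa [hJ, Ideal.mem_bot] at this

lemma vanish_of_lift {J : Ideal C} (hJ : IsNilpotent J) (v : B →ₐ[A] C) (u : B →ₐ[A] C ⧸ J)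
    (hvu : (Ideal.Quotient.mkₐ A J).comp v = u) (𝔟 : Ideal B)
    (hu : ∃ k : ℕ, ∀ x ∈ 𝔟 ^ k, u x = 0) : ∃ k : ℕ, ∀ x ∈ 𝔟 ^ k, v x = 0 := by
  obtain ⟨m, hm⟩ := hJ
  obtain ⟨k, hk⟩ := hu
  refine ⟨k * m, vanish_of_maps_into hm v.toRingHom 𝔟 fun x hx => ?_⟩
  have := hk x hx
  rw [← hvu] at this
  exact Ideal.Quotient.eq_zero_iff_mem.mp this

/-- it suffices to lift along square-zero ideals -/
theorem of_sq_zero (𝔞 : Ideal A) (𝔟 : Ideal B)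
    (h : ∀ (C : Type u) [CommRing C] [Algebra A C] (J : Ideal C), J ^ 2 = ⊥ →
      (∃ k : ℕ, (𝔞 ^ k).map (algebraMap A C) = ⊥) →
      ∀ u : B →ₐ[A] C ⧸ J, (∃ k : ℕ, ∀ x ∈ 𝔟 ^ k, u x = 0) →
        ∃ v : B →ₐ[A] C, (Ideal.Quotient.mkₐ A J).comp v = u) :
    EGA41.IsFormallySmoothAdic A 𝔞 B 𝔟 := by
  intro C _ _ J hJ
  suffices (∃ k : ℕ, (𝔞 ^ k).map (algebraMap A C) = ⊥) →
      ∀ u : B →ₐ[A] C ⧸ J, (∃ k : ℕ, ∀ x ∈ 𝔟 ^ k, u x = 0) →
        ∃ v : B →ₐ[A] C, (Ideal.Quotient.mkₐ A J).comp v = u ∧ (∃ k : ℕ, ∀ x ∈ 𝔟 ^ k, v x = 0) by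
    intro hcont u hu
    obtain ⟨v, hv, -⟩ := this hcont u hu
    exact ⟨v, hv⟩
  revert ‹Algebra A C›
  apply Ideal.IsNilpotent.induction_on (S := C) J hJ
  · intro S _ I hI _ hcont u hu
    obtain ⟨v, hv⟩ := h S I hI hcont u hu
    exact ⟨v, hv, vanish_of_lift ⟨2, hI⟩ v u hv 𝔟 hu⟩
  · intro S _ I J hIJ h₁ h₂ _ hcont u hu
    let e : ((S ⧸ I) ⧸ J.map (Ideal.Quotient.mk I)) ≃ₐ[A] S ⧸ J :=
      DoubleQuot.quotQuotEquivQuotOfLEₐ A hIJ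
    obtain ⟨k, hk⟩ := hcont
    obtain ⟨u', hu', hu'v⟩ := h₂ ⟨k, by
      rw [IsScalarTower.algebraMap_eq A S (S ⧸ I), ← Ideal.map_map, hk, Ideal.map_bot]⟩
      (e.symm.toAlgHom.comp u) (by
      obtain ⟨l, hl⟩ := hu
      exact ⟨l, fun x hx => by simp [hl x hx]⟩)
    have hu'e : ∀ b, e (Ideal.Quotient.mk _ (u' b)) = u b := fun b => by
      have := congrArg (fun f => e (f b)) hu'
      simpa using this
    obtain ⟨v, hv, hvv⟩ := h₁ ⟨k, hk⟩ u' hu'v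
    refine ⟨v, AlgHom.ext fun b => ?_, hvv⟩
    rw [← hu'e, ← hv]
    rfl

theorem trans {A B D : Type u} [CommRing A] [CommRing B] [CommRing D] [Algebra A B] [Algebra B D]
    [Algebra A D] [IsScalarTower A B D] (𝔞 : Ideal A) (𝔟 : Ideal B) (𝔡 : Ideal D)
    (hBD : ∃ k : ℕ, (𝔟 ^ k).map (algebraMap B D) ≤ 𝔡)
    (hB : EGA41.IsFormallySmoothAdic A 𝔞 B 𝔟) (hD : EGA41.IsFormallySmoothAdic B 𝔟 D 𝔡) :
    EGA41.IsFormallySmoothAdic A 𝔞 D 𝔡 := by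
  intro T _ _ J hJ hcont u hu
  have huB : ∃ k : ℕ, ∀ x ∈ 𝔟 ^ k, (u.comp (IsScalarTower.toAlgHom A B D)) x = 0 := by
    obtain ⟨k, hk⟩ := hBD
    obtain ⟨l, hl⟩ := hu
    refine ⟨k * l, fun x hx => hl _ ?_⟩
    have h2 : ((𝔟 ^ k) ^ l).map (algebraMap B D) ≤ 𝔡 ^ l :=
      (Ideal.map_pow _ _ _).trans_le (Ideal.pow_right_mono hk l)
    rw [← pow_mul] at h2
    exact h2 (Ideal.mem_map_of_mem _ hx)
  obtain ⟨v, hv⟩ := hB T J hJ hcont _ huB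
  obtain ⟨l, hl⟩ := vanish_of_lift hJ v _ hv 𝔟 huB
  let _ := v.toRingHom.toAlgebra
  have : IsScalarTower A B T := IsScalarTower.of_algebraMap_eq fun a => (v.commutes a).symm
  let u' : D →ₐ[B] T ⧸ J :=
    { u.toRingHom with commutes' := fun b => (congrArg (fun f => f b) hv).symm }
  obtain ⟨w, hw⟩ := hD T J hJ ⟨l, by
    rw [Ideal.map_eq_bot_iff_le_ker]
    exact fun x hx => hl x hx⟩ u' hu
  exact ⟨w.restrictScalars A, AlgHom.ext fun d => congrArg (fun f => f d) hw⟩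

theorem baseChange {A B A' : Type u} [CommRing A] [CommRing B] [CommRing A'] [Algebra A B]
    [Algebra A A'] (𝔞 : Ideal A) (𝔟 : Ideal B) (𝔞' : Ideal A')
    (hAA' : ∃ k : ℕ, (𝔞 ^ k).map (algebraMap A A') ≤ 𝔞')
    (hB : EGA41.IsFormallySmoothAdic A 𝔞 B 𝔟) :
    EGA41.IsFormallySmoothAdic A' 𝔞' (A' ⊗[A] B)
      (𝔞'.map (algebraMap A' (A' ⊗[A] B)) ⊔
        𝔟.map (Algebra.TensorProduct.includeRight : B →ₐ[A] A' ⊗[A] B).toRingHom) := by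
  intro T _ _ J hJ hcont u hu
  let _ := ((algebraMap A' T).comp (algebraMap A A')).toAlgebra
  have : IsScalarTower A A' T := IsScalarTower.of_algebraMap_eq fun a => rfl
  have hcA : ∃ k : ℕ, (𝔞 ^ k).map (algebraMap A T) = ⊥ := by
    obtain ⟨k, hk⟩ := hAA'
    obtain ⟨l, hl⟩ := hcont
    refine ⟨k * l, le_bot_iff.mp ?_⟩
    rw [IsScalarTower.algebraMap_eq A A' T, ← Ideal.map_map, pow_mul, Ideal.map_pow (algebraMap A A'),
      ← hl]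
    exact Ideal.map_mono (Ideal.pow_right_mono hk l)
  have huB : ∃ k : ℕ, ∀ x ∈ 𝔟 ^ k,
      ((u.restrictScalars A).comp Algebra.TensorProduct.includeRight) x = 0 := by
    obtain ⟨l, hl⟩ := hu
    refine ⟨l, fun x hx => hl _ ?_⟩
    refine Ideal.pow_right_mono le_sup_right l ?_
    rw [← Ideal.map_pow]
    exact Ideal.mem_map_of_mem _ hx
  obtain ⟨v, hv⟩ := hB T J hJ hcA _ huB
  refine ⟨Algebra.TensorProduct.lift (Algebra.ofId A' T) v (fun _ _ => Commute.all _ _), ?_⟩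
  refine Algebra.TensorProduct.ext' fun a b => ?_
  have : Ideal.Quotient.mk J (v b) = u (1 ⊗ₜ b) := congrArg (fun f => f b) hv
  rw [show a ⊗ₜ[A] b = algebraMap A' (A' ⊗[A] B) a * (1 ⊗ₜ b) by
    simp [Algebra.TensorProduct.algebraMap_apply], map_mul u, AlgHom.commutes, ← this]
  simp [Algebra.TensorProduct.algebraMap_apply]

theorem of_quotient_pow (𝔞 : Ideal A) (𝔟 : Ideal B)
    (h : ∀ n : ℕ, EGA41.IsFormallySmoothAdic (A ⧸ 𝔞 ^ n) ⊥ (B ⧸ (𝔞 ^ n).map (algebraMap A B))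
      (𝔟.map (Ideal.Quotient.mk ((𝔞 ^ n).map (algebraMap A B))))) :
    EGA41.IsFormallySmoothAdic A 𝔞 B 𝔟 := by
  intro T _ _ J hJ hcont u hu
  obtain ⟨n, hn⟩ := hcont
  let _ := (Ideal.Quotient.lift (𝔞 ^ n) (algebraMap A T) (fun a ha => by
    have := Ideal.mem_map_of_mem (algebraMap A T) ha
    rwa [hn, Ideal.mem_bot] at this)).toAlgebra
  have : IsScalarTower A (A ⧸ 𝔞 ^ n) T := IsScalarTower.of_algebraMap_eq fun a => rfl
  have hker : ∀ x ∈ (𝔞 ^ n).map (algebraMap A B), u.toRingHom x = 0 := by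
    intro x hx
    refine Ideal.map_le_iff_le_comap.mpr (fun a ha => ?_ : 𝔞 ^ n ≤ (RingHom.ker u.toRingHom).comap _) hx
    rw [Ideal.mem_comap, RingHom.mem_ker]
    change u (algebraMap A B a) = 0
    rw [AlgHom.commutes, IsScalarTower.algebraMap_apply A (A ⧸ 𝔞 ^ n) (T ⧸ J),
      show algebraMap A (A ⧸ 𝔞 ^ n) a = Ideal.Quotient.mk _ a from rfl,
      Ideal.Quotient.eq_zero_iff_mem.mpr ha, map_zero]
  let u' : B ⧸ (𝔞 ^ n).map (algebraMap A B) →ₐ[A ⧸ 𝔞 ^ n] T ⧸ J :=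
    { Ideal.Quotient.lift _ u.toRingHom hker with
      commutes' := fun a => by
        obtain ⟨a, rfl⟩ := Ideal.Quotient.mk_surjective a
        exact (u.commutes a).trans rfl }
  obtain ⟨v, hv⟩ := h n T J hJ ⟨1, by simp⟩ u' (by
    obtain ⟨l, hl⟩ := hu
    refine ⟨l, fun x hx => ?_⟩
    rw [← Ideal.map_pow] at hx
    obtain ⟨y, hy, rfl⟩ := (Ideal.mem_map_iff_of_surjective _ Ideal.Quotient.mk_surjective).mp hx
    exact hl y hy)
  exact ⟨(v.restrictScalars A).comp (Ideal.Quotient.mkₐ A _),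
    AlgHom.ext fun b => congrArg (fun f => f (Ideal.Quotient.mk _ b)) hv⟩

theorem to_quotient_pow (𝔞 : Ideal A) (𝔟 : Ideal B) (h : EGA41.IsFormallySmoothAdic A 𝔞 B 𝔟)
    (n : ℕ) : EGA41.IsFormallySmoothAdic (A ⧸ 𝔞 ^ n) ⊥ (B ⧸ (𝔞 ^ n).map (algebraMap A B))
      (𝔟.map (Ideal.Quotient.mk ((𝔞 ^ n).map (algebraMap A B)))) := by
  intro T _ _ J hJ _ u hu
  let _ := ((algebraMap (A ⧸ 𝔞 ^ n) T).comp (Ideal.Quotient.mk (𝔞 ^ n))).toAlgebra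
  have : IsScalarTower A (A ⧸ 𝔞 ^ n) T := IsScalarTower.of_algebraMap_eq fun a => rfl
  have hcA : (𝔞 ^ n).map (algebraMap A T) = ⊥ := by
    rw [IsScalarTower.algebraMap_eq A (A ⧸ 𝔞 ^ n) T, ← Ideal.map_map,
      show algebraMap A (A ⧸ 𝔞 ^ n) = Ideal.Quotient.mk _ from rfl, Ideal.map_quotient_self,
      Ideal.map_bot]
  obtain ⟨v, hv⟩ := h T J hJ ⟨n, hcA⟩ ((u.restrictScalars A).comp (Ideal.Quotient.mkₐ A _)) (by
    obtain ⟨l, hl⟩ := hu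
    refine ⟨l, fun x hx => hl _ ?_⟩
    rw [← Ideal.map_pow]
    exact Ideal.mem_map_of_mem _ hx)
  have hker : ∀ x ∈ (𝔞 ^ n).map (algebraMap A B), v.toRingHom x = 0 := by
    intro x hx
    have : x ∈ RingHom.ker v.toRingHom := by
      refine Ideal.map_le_iff_le_comap.mpr (fun a ha => ?_) hx
      rw [Ideal.mem_comap, RingHom.mem_ker]
      change v (algebraMap A B a) = 0
      rw [AlgHom.commutes]
      exact Ideal.mem_bot.mp (hcA ▸ Ideal.mem_map_of_mem _ ha)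
    exact this
  refine ⟨{ Ideal.Quotient.lift _ v.toRingHom hker with
      commutes' := fun a => by
        obtain ⟨a, rfl⟩ := Ideal.Quotient.mk_surjective a
        exact (v.commutes a).trans rfl }, AlgHom.ext fun b => ?_⟩
  obtain ⟨b, rfl⟩ := Ideal.Quotient.mk_surjective b
  exact congrArg (fun f => f b) hv

lemma exists_pair {R : Type u} [CommRing R] [Algebra A R] (I₁ I₂ : Ideal R)
    (f : B →ₐ[A] R ⧸ I₁) (g : B →ₐ[A] R ⧸ I₂)
    (h : ∀ b, Ideal.Quotient.factor (le_sup_left : I₁ ≤ I₁ ⊔ I₂) (f b) =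
      Ideal.Quotient.factor (le_sup_right : I₂ ≤ I₁ ⊔ I₂) (g b)) :
    ∃ w : B →ₐ[A] R ⧸ I₁ ⊓ I₂, (∀ b, Ideal.Quotient.factor inf_le_left (w b) = f b) ∧
      ∀ b, Ideal.Quotient.factor inf_le_right (w b) = g b := by
  let φ : R ⧸ I₁ ⊓ I₂ →ₐ[A] (R ⧸ I₁) × (R ⧸ I₂) :=
    (Ideal.Quotient.factorₐ A inf_le_left).prod (Ideal.Quotient.factorₐ A inf_le_right)
  have hφ : Function.Injective φ := by
    rw [injective_iff_map_eq_zero]
    intro x hx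
    obtain ⟨x, rfl⟩ := Ideal.Quotient.mk_surjective x
    exact Ideal.Quotient.eq_zero_iff_mem.mpr ⟨Ideal.Quotient.eq_zero_iff_mem.mp (congrArg Prod.fst hx),
      Ideal.Quotient.eq_zero_iff_mem.mp (congrArg Prod.snd hx)⟩
  have hr : ∀ b, (f.prod g) b ∈ φ.range := by
    intro b
    obtain ⟨x, hx⟩ := Ideal.Quotient.mk_surjective (f b)
    obtain ⟨y, hy⟩ := Ideal.Quotient.mk_surjective (g b)
    have h0 := h b
    rw [← hx, ← hy, Ideal.Quotient.factor_mk, Ideal.Quotient.factor_mk, Ideal.Quotient.eq,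
      Submodule.mem_sup] at h0
    obtain ⟨i, hi, j, hj, hij⟩ := h0
    refine ⟨Ideal.Quotient.mk _ (x - i), Prod.ext ?_ ?_⟩
    · change Ideal.Quotient.mk I₁ (x - i) = f b
      rw [← hx, Ideal.Quotient.eq, show x - i - x = -i by ring]
      exact I₁.neg_mem hi
    · change Ideal.Quotient.mk I₂ (x - i) = g b
      rw [← hy, Ideal.Quotient.eq, show x - i - y = j by linear_combination -hij]
      exact hj
  refine ⟨(AlgEquiv.ofInjective φ hφ).symm.toAlgHom.comp ((f.prod g).codRestrict φ.range hr),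
    fun b => ?_, fun b => ?_⟩
  all_goals
    have := congrArg Subtype.val ((AlgEquiv.ofInjective φ hφ).apply_symm_apply
      ((f.prod g).codRestrict φ.range hr b))
  · exact congrArg Prod.fst this
  · exact congrArg Prod.snd this

/-- one step in the construction of a lift to a complete algebra -/
lemma exists_lift_step (𝔞 : Ideal A) (𝔟 : Ideal B) (𝔠 J : Ideal C)
    (hB : EGA41.IsFormallySmoothAdic A 𝔞 B 𝔟)
    (hAC : ∃ k : ℕ, (𝔞 ^ k).map (algebraMap A C) ≤ 𝔠) (hJ : ∃ t : ℕ, J ^ t ≤ 𝔠)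
    (u : B →ₐ[A] C ⧸ J) (hu : ∃ k : ℕ, (𝔟 ^ k).map u.toRingHom ≤ 𝔠.map (Ideal.Quotient.mk J))
    (n : ℕ) (f : B →ₐ[A] C ⧸ 𝔠 ^ n)
    (hf : ∀ b, Ideal.Quotient.factor (le_sup_left : 𝔠 ^ n ≤ 𝔠 ^ n ⊔ J) (f b) =
      Ideal.Quotient.factor (le_sup_right : J ≤ 𝔠 ^ n ⊔ J) (u b))
    (hfv : ∃ k : ℕ, ∀ x ∈ 𝔟 ^ k, f x = 0) :
    ∃ g : B →ₐ[A] C ⧸ 𝔠 ^ (n + 1),
      (∀ b, Ideal.Quotient.factor (Ideal.pow_le_pow_right n.le_succ) (g b) = f b) ∧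
      (∀ b, Ideal.Quotient.factor (le_sup_left : 𝔠 ^ (n + 1) ≤ 𝔠 ^ (n + 1) ⊔ J) (g b) =
        Ideal.Quotient.factor (le_sup_right : J ≤ 𝔠 ^ (n + 1) ⊔ J) (u b)) ∧
      ∃ k : ℕ, ∀ x ∈ 𝔟 ^ k, g x = 0 := by
  set I₂ := 𝔠 ^ (n + 1) ⊔ J with hI₂
  have hle : 𝔠 ^ n ⊔ J ≤ 𝔠 ^ n ⊔ I₂ := sup_le le_sup_left ((le_sup_right.trans le_sup_right))
  let g₂ : B →ₐ[A] C ⧸ I₂ := (Ideal.Quotient.factorₐ A le_sup_right).comp u
  obtain ⟨w, hw₁, hw₂⟩ := exists_pair (A := A) (𝔠 ^ n) I₂ f g₂ fun b => by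
    have := congrArg (Ideal.Quotient.factor hle) (hf b)
    rw [Ideal.Quotient.factor_comp_apply, Ideal.Quotient.factor_comp_apply] at this
    change _ = Ideal.Quotient.factor (le_sup_right : I₂ ≤ 𝔠 ^ n ⊔ I₂)
      (Ideal.Quotient.factor (le_sup_right : J ≤ I₂) (u b))
    rw [Ideal.Quotient.factor_comp_apply]
    exact this
  have hK : 𝔠 ^ (n + 1) ≤ 𝔠 ^ n ⊓ I₂ := le_inf (Ideal.pow_le_pow_right n.le_succ) le_sup_left
  let K := (𝔠 ^ n ⊓ I₂).map (Ideal.Quotient.mk (𝔠 ^ (n + 1)))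
  obtain ⟨t, ht⟩ := hJ
  have hKn : IsNilpotent K := by
    refine ⟨t * (n + 1), le_bot_iff.mp ?_⟩
    have h1 : K ≤ J.map (Ideal.Quotient.mk (𝔠 ^ (n + 1))) := by
      refine (Ideal.map_mono (inf_le_right : 𝔠 ^ n ⊓ I₂ ≤ I₂)).trans ?_
      rw [hI₂, Ideal.map_sup, Ideal.map_quotient_self, bot_sup_eq]
    refine (Ideal.pow_right_mono h1 _).trans ?_
    rw [← Ideal.map_pow, pow_mul]
    refine (Ideal.map_mono (Ideal.pow_right_mono ht (n + 1))).trans ?_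
    rw [Ideal.map_quotient_self]
  have hcont : ∃ k : ℕ, (𝔞 ^ k).map (algebraMap A (C ⧸ 𝔠 ^ (n + 1))) = ⊥ := by
    obtain ⟨k, hk⟩ := hAC
    refine ⟨k * (n + 1), le_bot_iff.mp ?_⟩
    rw [IsScalarTower.algebraMap_eq A C (C ⧸ 𝔠 ^ (n + 1)), ← Ideal.map_map, pow_mul,
      Ideal.map_pow (algebraMap A C)]
    refine (Ideal.map_mono (Ideal.pow_right_mono hk (n + 1))).trans ?_
    exact (Ideal.map_quotient_self (𝔠 ^ (n + 1))).le
  let e : ((C ⧸ 𝔠 ^ (n + 1)) ⧸ K) ≃ₐ[A] C ⧸ 𝔠 ^ n ⊓ I₂ := DoubleQuot.quotQuotEquivQuotOfLEₐ A hK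
  have hwv : ∃ k : ℕ, ∀ x ∈ 𝔟 ^ k, w x = 0 := by
    obtain ⟨k, hk⟩ := hu
    obtain ⟨l, hl⟩ := hfv
    refine ⟨max l (k * (n + 1)), fun x hx => ?_⟩
    have h1 : f x = 0 := hl x (Ideal.pow_le_pow_right (le_max_left _ _) hx)
    have h2 : g₂ x = 0 := by
      have hx' := Ideal.pow_le_pow_right (le_max_right l (k * (n + 1))) hx
      rw [pow_mul] at hx'
      have h3 := Ideal.mem_map_of_mem u.toRingHom hx'
      rw [Ideal.map_pow] at h3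
      have h4 := Ideal.pow_right_mono hk (n + 1) h3
      rw [← Ideal.map_pow] at h4
      obtain ⟨y, hy, hy'⟩ := (Ideal.mem_map_iff_of_surjective _ Ideal.Quotient.mk_surjective).mp h4
      change Ideal.Quotient.factor (le_sup_right : J ≤ I₂) (u.toRingHom x) = 0
      rw [← hy', Ideal.Quotient.factor_mk, Ideal.Quotient.eq_zero_iff_mem]
      exact Ideal.mem_sup_left hy
    obtain ⟨y, hy⟩ := Ideal.Quotient.mk_surjective (w x)
    have a1 := hw₁ x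
    have a2 := hw₂ x
    rw [← hy, h1, Ideal.Quotient.factor_mk, Ideal.Quotient.eq_zero_iff_mem] at a1
    rw [← hy, h2, Ideal.Quotient.factor_mk, Ideal.Quotient.eq_zero_iff_mem] at a2
    rw [← hy, Ideal.Quotient.eq_zero_iff_mem]
    exact ⟨a1, a2⟩
  have hu' : ∃ k : ℕ, ∀ x ∈ 𝔟 ^ k, (e.symm.toAlgHom.comp w) x = 0 := by
    obtain ⟨k, hk⟩ := hwv
    exact ⟨k, fun x hx => by simp [hk x hx]⟩
  obtain ⟨g, hg⟩ := hB _ K hKn hcont _ hu'
  have hgw : ∀ b, e (Ideal.Quotient.mk K (g b)) = w b := fun b => by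
    have := congrArg (fun φ => e (φ b)) hg
    simpa using this
  refine ⟨g, fun b => ?_, fun b => ?_, vanish_of_lift hKn g _ hg 𝔟 hu'⟩
  · rw [← hw₁, ← hgw]
    obtain ⟨y, hy⟩ := Ideal.Quotient.mk_surjective (g b)
    rw [← hy]
    rfl
  · change _ = g₂ b
    rw [← hw₂, ← hgw]
    obtain ⟨y, hy⟩ := Ideal.Quotient.mk_surjective (g b)
    rw [← hy]
    rfl

/-- lifting to an adically complete algebra -/
theorem lift_adicComplete (𝔞 : Ideal A) (𝔟 : Ideal B) (𝔠 : Ideal C)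
    (hB : EGA41.IsFormallySmoothAdic A 𝔞 B 𝔟) [IsAdicComplete 𝔠 C]
    (hAC : ∃ k : ℕ, (𝔞 ^ k).map (algebraMap A C) ≤ 𝔠)
    (J : Ideal C) (hJ : ∃ t : ℕ, J ^ t ≤ 𝔠) [IsHausdorff (𝔠.map (Ideal.Quotient.mk J)) (C ⧸ J)]
    (u : B →ₐ[A] C ⧸ J) (hu : ∃ k : ℕ, (𝔟 ^ k).map u.toRingHom ≤ 𝔠.map (Ideal.Quotient.mk J)) :
    ∃ v : B →ₐ[A] C, (∃ k : ℕ, (𝔟 ^ k).map v.toRingHom ≤ 𝔠) ∧
      (Ideal.Quotient.mkₐ A J).comp v = u := by
  let S : ℕ → Type u := fun n => {f : B →ₐ[A] C ⧸ 𝔠 ^ n //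
    (∀ b, Ideal.Quotient.factor (le_sup_left : 𝔠 ^ n ≤ 𝔠 ^ n ⊔ J) (f b) =
      Ideal.Quotient.factor (le_sup_right : J ≤ 𝔠 ^ n ⊔ J) (u b)) ∧
    ∃ k : ℕ, ∀ x ∈ 𝔟 ^ k, f x = 0}
  have hsub : Subsingleton (C ⧸ 𝔠 ^ 0) :=
    Ideal.Quotient.subsingleton_iff.mpr (by rw [pow_zero, Ideal.one_eq_top])
  have h0 : Subsingleton (C ⧸ (𝔠 ^ 0 ⊔ J)) :=
    Ideal.Quotient.subsingleton_iff.mpr (by rw [pow_zero, Ideal.one_eq_top, top_sup_eq])
  let s₀ : S 0 := ⟨(Ideal.Quotient.factorₐ A (show J ≤ 𝔠 ^ 0 by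
      rw [pow_zero, Ideal.one_eq_top]; exact le_top)).comp u,
    fun b => Subsingleton.elim _ _, 0, fun x _ => Subsingleton.elim _ _⟩
  let next : ∀ n, S n → S (n + 1) := fun n s =>
    ⟨(exists_lift_step 𝔞 𝔟 𝔠 J hB hAC hJ u hu n s.1 s.2.1 s.2.2).choose,
      (exists_lift_step 𝔞 𝔟 𝔠 J hB hAC hJ u hu n s.1 s.2.1 s.2.2).choose_spec.2⟩
  let seq : ∀ n, S n := fun n => Nat.rec s₀ next n
  have hstep : ∀ n b, Ideal.Quotient.factor (Ideal.pow_le_pow_right n.le_succ)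
      ((seq (n + 1)).1 b) = (seq n).1 b := fun n b =>
    (exists_lift_step 𝔞 𝔟 𝔠 J hB hAC hJ u hu n (seq n).1 (seq n).2.1
      (seq n).2.2).choose_spec.1 b
  have hcompat : ∀ {m n : ℕ} (hle : m ≤ n),
      (Ideal.Quotient.factorₐ A (Ideal.pow_le_pow_right hle)).comp (seq n).1 = (seq m).1 := by
    intro m n hle
    induction n, hle using Nat.le_induction with
    | base =>
      refine AlgHom.ext fun b => ?_
      obtain ⟨y, hy⟩ := Ideal.Quotient.mk_surjective ((seq m).1 b)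
      rw [AlgHom.comp_apply, ← hy]
      rfl
    | succ n hmn ih =>
      refine AlgHom.ext fun b => ?_
      rw [← ih, AlgHom.comp_apply, AlgHom.comp_apply, ← hstep n b]
      obtain ⟨y, hy⟩ := Ideal.Quotient.mk_surjective ((seq (n + 1)).1 b)
      rw [← hy]
      rfl
  let v : B →ₐ[A] C := IsAdicComplete.liftAlgHom 𝔠 (fun n => (seq n).1) hcompat
  refine ⟨v, ?_, AlgHom.ext fun b => ?_⟩
  · obtain ⟨k, hk⟩ := (seq 1).2.2
    refine ⟨k, Ideal.map_le_iff_le_comap.mpr fun x hx => ?_⟩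
    rw [Ideal.mem_comap, ← pow_one 𝔠, ← Ideal.Quotient.eq_zero_iff_mem]
    exact (IsAdicComplete.mk_liftAlgHom 𝔠 _ hcompat 1 x).trans (hk x hx)
  · rw [← sub_eq_zero]
    refine IsHausdorff.haus inferInstance (I := 𝔠.map (Ideal.Quotient.mk J)) _ fun n => ?_
    rw [SModEq.zero, smul_eq_mul, Ideal.mul_top, ← Ideal.map_pow]
    obtain ⟨y, hy⟩ := Ideal.Quotient.mk_surjective (u b)
    have := (seq n).2.1 b
    rw [← IsAdicComplete.mk_liftAlgHom 𝔠 _ hcompat n b, ← hy, Ideal.Quotient.factor_mk,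
      Ideal.Quotient.factor_mk, Ideal.Quotient.eq, Submodule.mem_sup] at this
    obtain ⟨i, hi, j, hj, hij⟩ := this
    rw [AlgHom.comp_apply, Ideal.Quotient.mkₐ_eq_mk, ← hy, ← map_sub, ← hij, map_add,
      Ideal.Quotient.eq_zero_iff_mem.mpr hj, add_zero]
    exact Ideal.mem_map_of_mem _ hi

end Groth.Agent.FSAdic
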