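import Groth.Prelude.Def_EGA41
import Groth.Agent.FSAdic.Basic
import Mathlib

/-! Adic formal smoothness only depends on the quotients by powers of the ideal of definition; in
particular it is insensitive to completion. -/

set_option autoImplicit false

open TensorProduct

namespace Groth.Agent.FSAdic

universe u

variable {A B B' : Type u} [CommRing A] [CommRing B] [CommRing B'] [Algebra A B] [Algebra A B']

/-- A map killing `𝔟^n` factors through any map inducing `B/𝔟^n ≅ B'/𝔟'^n`. -/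
theorem exists_factor {T : Type u} [CommRing T] [Algebra A T] (φ : B →ₐ[A] B') (𝔟 : Ideal B)
    (𝔟' : Ideal B') (n : ℕ) (hsurj : ∀ y : B', ∃ x : B, y - φ x ∈ 𝔟' ^ n)
    (hker : ∀ x : B, φ x ∈ 𝔟' ^ n ↔ x ∈ 𝔟 ^ n) (v : B →ₐ[A] T) (hv : ∀ x ∈ 𝔟 ^ n, v x = 0) :
    ∃ w : B' →ₐ[A] T, w.comp φ = v ∧ ∀ y ∈ 𝔟' ^ n, w y = 0 := by
  let ψ : B →ₐ[A] B' ⧸ 𝔟' ^ n := (Ideal.Quotient.mkₐ A _).comp φ
  have hψ : Function.Surjective ψ := fun z => by
    obtain ⟨y, rfl⟩ := Ideal.Quotient.mk_surjective z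
    obtain ⟨x, hx⟩ := hsurj y
    exact ⟨x, (Ideal.Quotient.mk_eq_mk_iff_sub_mem _ _).mpr
      (by have := neg_mem hx; rwa [neg_sub] at this)⟩
  have hk : RingHom.ker ψ.toRingHom ≤ RingHom.ker v.toRingHom := fun x hx =>
    hv x ((hker x).mp (Ideal.Quotient.eq_zero_iff_mem.mp hx))
  let e := Ideal.quotientKerAlgEquivOfSurjective hψ
  refine ⟨((Ideal.Quotient.liftₐ _ v fun x hx => hk hx).comp e.symm.toAlgHom).comp
    (Ideal.Quotient.mkₐ A _), AlgHom.ext fun x => ?_, fun y hy => ?_⟩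
  · have : e.symm (Ideal.Quotient.mk _ (φ x)) = Ideal.Quotient.mk _ x :=
      e.symm_apply_eq.mpr rfl
    exact (congrArg (Ideal.Quotient.liftₐ _ v fun x hx => hk hx) this).trans rfl
  · simp [Ideal.Quotient.eq_zero_iff_mem.mpr hy]

/-- Formal smoothness is transferred along maps inducing isomorphisms modulo all powers. -/
theorem iff_of_quotient_bijective (φ : B →ₐ[A] B') (𝔞 : Ideal A) (𝔟 : Ideal B) (𝔟' : Ideal B')
    (hsurj : ∀ (n : ℕ) (y : B'), ∃ x : B, y - φ x ∈ 𝔟' ^ n)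
    (hker : ∀ (n : ℕ) (x : B), φ x ∈ 𝔟' ^ n ↔ x ∈ 𝔟 ^ n) :
    EGA41.IsFormallySmoothAdic A 𝔞 B 𝔟 ↔ EGA41.IsFormallySmoothAdic A 𝔞 B' 𝔟' := by
  constructor
  · intro h T _ _ J hJ hcont u hu
    have hu' : ∃ k : ℕ, ∀ x ∈ 𝔟 ^ k, (u.comp φ) x = 0 := by
      obtain ⟨k, hk⟩ := hu
      exact ⟨k, fun x hx => hk _ ((hker k x).mpr hx)⟩
    obtain ⟨v, hv⟩ := h T J hJ hcont _ hu'
    obtain ⟨l, hl⟩ := vanish_of_lift hJ v _ hv 𝔟 hu'
    obtain ⟨k, hk⟩ := hu
    obtain ⟨w, hw, hw0⟩ := exists_factor φ 𝔟 𝔟' (max l k) (hsurj _) (hker _) v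
      fun x hx => hl x (Ideal.pow_le_pow_right (le_max_left _ _) hx)
    refine ⟨w, AlgHom.ext fun y => ?_⟩
    obtain ⟨x, hx⟩ := hsurj (max l k) y
    have h1 : w y = w (φ x) := by
      rw [← sub_eq_zero, ← map_sub]; exact hw0 _ hx
    have h2 : u y = u (φ x) := by
      rw [← sub_eq_zero, ← map_sub]
      exact hk _ (Ideal.pow_le_pow_right (le_max_right _ _) hx)
    rw [AlgHom.comp_apply, h1, h2]
    have h3 := congrArg (fun f => f x) hv
    rw [show w (φ x) = v x from congrArg (fun f => f x) hw]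
    exact h3
  · intro h T _ _ J hJ hcont u hu
    obtain ⟨k, hk⟩ := hu
    obtain ⟨u', hu', hu'0⟩ := exists_factor φ 𝔟 𝔟' k (hsurj k) (hker k) u hk
    obtain ⟨v, hv⟩ := h T J hJ hcont u' ⟨k, hu'0⟩
    exact ⟨v.comp φ, by rw [← AlgHom.comp_assoc, hv, hu']⟩

/-- The powers of the extended ideal are the kernels of the projections of the completion. -/
theorem ker_evalₐ (I : Ideal B) (hI : I.FG) (n : ℕ) :
    RingHom.ker (AdicCompletion.evalₐ I n).toRingHom =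
      (I.map (algebraMap B (AdicCompletion I B))) ^ n := by
  ext x
  have key : x ∈ (I ^ n).map (algebraMap B (AdicCompletion I B)) ↔
      AdicCompletion.eval I B n x = 0 := by
    rw [← LinearMap.mem_ker, ← AdicCompletion.pow_smul_top_eq_ker_eval hI, Ideal.smul_top_eq_map]
    rfl
  rw [← Ideal.map_pow, key, RingHom.mem_ker]
  have h : I ^ n • (⊤ : Ideal B) ≤ I ^ n := by rw [smul_eq_mul, Ideal.mul_top]
  have h' : I ^ n ≤ I ^ n • (⊤ : Ideal B) := by rw [smul_eq_mul, Ideal.mul_top]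
  constructor
  · intro hx
    rw [← AdicCompletion.factor_evalₐ_eq_eval I x h']
    change Submodule.factor h' ((AdicCompletion.evalₐ I n).toRingHom x) = 0
    rw [RingHom.mem_ker.mp hx, map_zero]
  · intro hx
    change AdicCompletion.evalₐ I n x = 0
    rw [← AdicCompletion.factor_eval_eq_evalₐ I x h, hx, map_zero]

/-- Completion does not change adic formal smoothness. -/
theorem iff_adicCompletion (𝔞 : Ideal A) (𝔟 : Ideal B) (h𝔟 : 𝔟.FG) :
    EGA41.IsFormallySmoothAdic A 𝔞 B 𝔟 ↔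
      EGA41.IsFormallySmoothAdic A 𝔞 (AdicCompletion 𝔟 B)
        (𝔟.map (algebraMap B (AdicCompletion 𝔟 B))) := by
  refine iff_of_quotient_bijective (IsScalarTower.toAlgHom A B _) 𝔞 𝔟 _ (fun n y => ?_) fun n x => ?_
  · obtain ⟨x, hx⟩ := Ideal.Quotient.mk_surjective (AdicCompletion.evalₐ 𝔟 n y)
    refine ⟨x, ?_⟩
    rw [← ker_evalₐ 𝔟 h𝔟, RingHom.mem_ker]
    change AdicCompletion.evalₐ 𝔟 n (y - algebraMap B _ x) = 0
    rw [map_sub, AlgHom.commutes, ← hx, Ideal.Quotient.algebraMap_eq, sub_self]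
  · rw [← ker_evalₐ 𝔟 h𝔟, RingHom.mem_ker]
    change AdicCompletion.evalₐ 𝔟 n (algebraMap B _ x) = 0 ↔ _
    rw [AlgHom.commutes, Ideal.Quotient.algebraMap_eq, Ideal.Quotient.eq_zero_iff_mem]

end Groth.Agent.FSAdic
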