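import Mathlib.RingTheory.MvPowerSeries.Equiv
import Mathlib.RingTheory.MvPolynomial.Ideal
import Mathlib.RingTheory.Nilpotent.Lemmas

/-! Power series in finitely many variables: the powers of the ideal of the variables, and
evaluation at nilpotent elements. -/

set_option autoImplicit false

open MvPowerSeries

namespace Groth.Agent.FSAdic

variable {A : Type*} [CommRing A] {n : ℕ}

/-- the ideal of series without constant term -/
noncomputable abbrev augIdeal (A : Type*) [CommRing A] (n : ℕ) : Ideal (MvPowerSeries (Fin n) A) :=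
  RingHom.ker (MvPowerSeries.constantCoeff : MvPowerSeries (Fin n) A →+* A)

lemma X_mem_augIdeal (i : Fin n) : (X i : MvPowerSeries (Fin n) A) ∈ augIdeal A n :=
  constantCoeff_X i

lemma mem_spanX_pow {N : ℕ} {p : MvPowerSeries (Fin n) A}
    (h : ∀ d : Fin n →₀ ℕ, Finsupp.degree d < N → coeff d p = 0) :
    p ∈ Ideal.span (Set.range (X : Fin n → MvPowerSeries (Fin n) A)) ^ N := by
  classical
  induction N generalizing p with
  | zero => simp
  | succ N ih =>
    let q : Fin n → MvPowerSeries (Fin n) A := fun i d =>
      if (∀ j < i, d j = 0) then coeff (d + Finsupp.single i 1) p else 0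
    have hq : ∀ i, q i ∈ Ideal.span (Set.range (X : Fin n → MvPowerSeries (Fin n) A)) ^ N := fun i => ih fun d hd => by
      change (if _ then _ else _) = _
      split_ifs
      · exact h _ (by rw [map_add, Finsupp.degree_single]; omega)
      · rfl
    have hp : p = ∑ i, X i * q i := by
      ext e
      rw [map_sum]
      simp only [X_def, coeff_monomial_mul, one_mul]
      by_cases he : e = 0
      · subst he
        rw [h 0 (by simp)]
        refine (Finset.sum_eq_zero fun i _ => if_neg fun hle => ?_).symm
        have := hle i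
        simp at this
      · obtain ⟨i₀, hi₀, hmin⟩ : ∃ i, e i ≠ 0 ∧ ∀ j < i, e j = 0 := by
          have hne : (Finset.univ.filter fun i => e i ≠ 0).Nonempty := by
            obtain ⟨i, hi⟩ := Finsupp.support_nonempty_iff.mpr he
            exact ⟨i, Finset.mem_filter.mpr ⟨Finset.mem_univ _, Finsupp.mem_support_iff.mp hi⟩⟩
          refine ⟨(Finset.univ.filter fun i => e i ≠ 0).min' hne,
            (Finset.mem_filter.mp (Finset.min'_mem _ hne)).2, fun j hj => ?_⟩
          by_contra hne'
          exact (not_lt.mpr (Finset.min'_le _ j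
            (Finset.mem_filter.mpr ⟨Finset.mem_univ _, hne'⟩))) hj
        rw [Finset.sum_eq_single i₀]
        · have hle : Finsupp.single i₀ 1 ≤ e := Finsupp.single_le_iff.mpr (by omega)
          rw [if_pos hle]
          change _ = (if _ then _ else _)
          rw [if_pos, tsub_add_cancel_of_le hle]
          intro j hj
          simp [hmin j hj]
        · intro i _ hi
          split_ifs with hle
          · change (if _ then _ else _) = _
            rw [if_neg]
            intro hall
            have h1 : 1 ≤ e i := Finsupp.single_le_iff.mp hle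
            rcases lt_or_gt_of_ne hi with hlt | hgt
            · exact absurd (hmin i hlt) (by omega)
            · have := hall i₀ hgt
              rw [Finsupp.tsub_apply, Finsupp.single_eq_of_ne hgt.ne] at this
              omega
          · rfl
        · exact fun hni => absurd (Finset.mem_univ i₀) hni
    rw [hp]
    exact Ideal.sum_mem _ fun i _ => by
      rw [pow_succ']
      exact Ideal.mul_mem_mul (Ideal.subset_span ⟨i, rfl⟩) (hq i)

lemma augIdeal_eq_span :
    augIdeal A n = Ideal.span (Set.range (X : Fin n → MvPowerSeries (Fin n) A)) := by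
  refine le_antisymm (fun q hq => ?_) (Ideal.span_le.mpr ?_)
  · rw [← pow_one (Ideal.span _)]
    refine mem_spanX_pow fun d hd => ?_
    rw [(Finsupp.degree_eq_zero_iff d).mp (by omega), coeff_zero_eq_constantCoeff_apply]
    exact hq
  · rintro _ ⟨i, rfl⟩
    exact X_mem_augIdeal i

lemma sub_truncTotal_mem (N : ℕ) (p : MvPowerSeries (Fin n) A) :
    p - (truncTotal N p : MvPolynomial (Fin n) A) ∈ augIdeal A n ^ N :=
  augIdeal_eq_span (A := A) (n := n) ▸ mem_spanX_pow fun d hd => by
    rw [map_sub, MvPolynomial.coeff_coe, coeff_truncTotal _ hd]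
    exact sub_self _

variable {E : Type*} [CommRing E] [Algebra A E]

lemma algHom_coe (f : MvPowerSeries (Fin n) A →ₐ[A] E) (P : MvPolynomial (Fin n) A) :
    f P = MvPolynomial.aeval (fun i => f (X i)) P := by
  have : f.comp (MvPolynomial.coeToMvPowerSeries.algHom A) =
      MvPolynomial.aeval (fun i => f (X i)) := MvPolynomial.algHom_ext fun i => by simp
  exact congrArg (fun g => g P) this

lemma algHom_ext_of_vanish {f g : MvPowerSeries (Fin n) A →ₐ[A] E} (N : ℕ)
    (hf : ∀ x ∈ augIdeal A n ^ N, f x = 0) (hg : ∀ x ∈ augIdeal A n ^ N, g x = 0)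
    (h : ∀ i, f (X i) = g (X i)) : f = g := by
  ext p
  have h1 := hf _ (sub_truncTotal_mem N p)
  have h2 := hg _ (sub_truncTotal_mem N p)
  rw [map_sub, sub_eq_zero, algHom_coe] at h1 h2
  rw [h1, h2, show (fun i => f (X i)) = fun i => g (X i) from funext h]

/-- evaluation of power series at elements generating an ideal with vanishing `N`-th power -/
noncomputable def evalNilp (z : Fin n → E) (N : ℕ) (hN : Ideal.span (Set.range z) ^ N = ⊥) :
    MvPowerSeries (Fin n) A →ₐ[A] E :=
  (Ideal.Quotient.liftₐ (MvPolynomial.idealOfVars (Fin n) A ^ N) (MvPolynomial.aeval z) (by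
    intro p hp
    have h : (MvPolynomial.idealOfVars (Fin n) A).map (MvPolynomial.aeval z) ≤
        Ideal.span (Set.range z) := by
      rw [MvPolynomial.idealOfVars, Ideal.map_span]
      refine Ideal.span_mono ?_
      rintro _ ⟨_, ⟨i, rfl⟩, rfl⟩
      exact ⟨i, by simp⟩
    have h2 := Ideal.pow_right_mono h N (Ideal.map_pow (MvPolynomial.aeval z)
      (MvPolynomial.idealOfVars (Fin n) A) N ▸ Ideal.mem_map_of_mem (MvPolynomial.aeval z) hp)
    rwa [hN, Ideal.mem_bot] at h2)).comp
    ((truncTotalAlgHom (Fin n) A N).restrictScalars A)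

lemma evalNilp_apply (z : Fin n → E) (N : ℕ) (hN : Ideal.span (Set.range z) ^ N = ⊥)
    (p : MvPowerSeries (Fin n) A) :
    evalNilp z N hN p = MvPolynomial.aeval z (truncTotal N p) := by
  simp [evalNilp]

lemma evalNilp_X (z : Fin n → E) (N : ℕ) (hN : Ideal.span (Set.range z) ^ N = ⊥) (i : Fin n) :
    evalNilp (A := A) z N hN (X i) = z i := by
  rw [evalNilp_apply]
  rcases lt_or_ge 1 N with h | h
  · have : truncTotal N (X i : MvPowerSeries (Fin n) A) = MvPolynomial.X i := by
      classical
      ext d
      rw [coeff_truncTotal_eq_ite, MvPolynomial.coeff_X', coeff_X]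
      split_ifs with h1 h2 h3 <;> try rfl
      · exact absurd h2.symm h3
      · rename_i h3; exact absurd h3.symm h2
      · rename_i h2
        subst h2
        simp at h1
        omega
    rw [this, MvPolynomial.aeval_X]
  · have hz : Ideal.span (Set.range z) = ⊥ := by
      interval_cases N
      · rw [pow_zero, Ideal.one_eq_top] at hN
        rw [eq_bot_iff]
        exact le_top.trans hN.le
      · rwa [pow_one] at hN
    have hz' : ∀ j, z j = 0 := fun j =>
      Ideal.mem_bot.mp (hz ▸ Ideal.subset_span ⟨j, rfl⟩)
    rw [hz', show z = 0 from funext hz', MvPolynomial.aeval_zero,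
      constantCoeff_truncTotal_eq_ite]
    split_ifs <;> simp

lemma evalNilp_mem (z : Fin n → E) (N : ℕ) (hN : Ideal.span (Set.range z) ^ N = ⊥)
    {p : MvPowerSeries (Fin n) A} (hp : p ∈ augIdeal A n) :
    evalNilp z N hN p ∈ Ideal.span (Set.range z) := by
  rw [augIdeal_eq_span] at hp
  refine (Ideal.span_le (I := (Ideal.span (Set.range z)).comap (evalNilp z N hN)) |>.mpr ?_) hp
  rintro _ ⟨i, rfl⟩
  simp only [SetLike.mem_coe, Ideal.mem_comap, evalNilp_X]
  exact Ideal.subset_span ⟨i, rfl⟩

end Groth.Agent.FSAdic
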