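import Groth.Prelude.Def_EGA41
import Groth.Agent.FSAdic.Basic
import Mathlib

/-! Adic formal smoothness of algebras that are formally projective modules: reduction modulo the
ideal of definition of the base, and faithfully flat descent. -/

set_option autoImplicit false

open TensorProduct

namespace Groth.Agent.FSAdic

universe u

variable {A B : Type u} [CommRing A] [CommRing B] [Algebra A B]

/-- `B` is a formally projective topological `A`-module. -/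
def FormallyProjective (𝔞 : Ideal A) (𝔟 : Ideal B) : Prop :=
  ∀ (n : ℕ) (P Q : Type u) [AddCommGroup P] [Module A P] [AddCommGroup Q] [Module A Q],
    (∀ a ∈ 𝔞 ^ n, ∀ y : P, a • y = 0) → (∀ a ∈ 𝔞 ^ n, ∀ y : Q, a • y = 0) →
    ∀ f : P →ₗ[A] Q, Function.Surjective f → ∀ v : B →ₗ[A] Q, (∃ m : ℕ, ∀ x ∈ 𝔟 ^ m, v x = 0) →
      ∃ w : B →ₗ[A] P, (∃ m : ℕ, ∀ x ∈ 𝔟 ^ m, w x = 0) ∧ f ∘ₗ w = v

/-- Continuous linear lift of a continuous algebra map. -/
theorem exists_linear_lift (𝔞 : Ideal A) (𝔟 : Ideal B) (hproj : FormallyProjective 𝔞 𝔟)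
    {C : Type u} [CommRing C] [Algebra A C] (J : Ideal C)
    (hcont : ∃ k : ℕ, (𝔞 ^ k).map (algebraMap A C) = ⊥)
    (u : B →ₐ[A] C ⧸ J) (hu : ∃ k : ℕ, ∀ x ∈ 𝔟 ^ k, u x = 0) :
    ∃ w : B →ₗ[A] C, (∃ m : ℕ, ∀ x ∈ 𝔟 ^ m, w x = 0) ∧ ∀ x, Ideal.Quotient.mk J (w x) = u x := by
  obtain ⟨n, hn⟩ := hcont
  have hC : ∀ a ∈ 𝔞 ^ n, ∀ y : C, a • y = 0 := fun a ha y => by
    have h0 : algebraMap A C a = 0 := by
      rw [← Ideal.mem_bot, ← hn]; exact Ideal.mem_map_of_mem _ ha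
    rw [Algebra.smul_def, h0, zero_mul]
  have hQ : ∀ a ∈ 𝔞 ^ n, ∀ y : C ⧸ J, a • y = 0 := fun a ha y => by
    obtain ⟨y, rfl⟩ := Ideal.Quotient.mk_surjective y
    exact congrArg (Ideal.Quotient.mk J) (hC a ha y) |>.trans (map_zero _)
  obtain ⟨w, hw, hw'⟩ := hproj n C (C ⧸ J) hC hQ (Ideal.Quotient.mkₐ A J).toLinearMap
    Ideal.Quotient.mk_surjective u.toLinearMap hu
  exact ⟨w, hw, fun x => LinearMap.congr_fun hw' x⟩

/-- The base case, with the ring of pairs `(x, c)` with `u x = c mod J` given abstractly. -/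
theorem exists_lift_aux (𝔞 : Ideal A) (𝔟 : Ideal B)
    (h₀ : EGA41.IsFormallySmoothAdic (A ⧸ 𝔞) ⊥ (B ⧸ 𝔞.map (algebraMap A B))
      (𝔟.map (Ideal.Quotient.mk (𝔞.map (algebraMap A B)))))
    {C : Type u} [CommRing C] [Algebra A C] (J : Ideal C) (hJ : J ^ 2 = ⊥)
    (u : B →ₐ[A] C ⧸ J) (w : B →ₗ[A] C) (hw : ∀ x, Ideal.Quotient.mk J (w x) = u x)
    (haJ : ∀ a ∈ 𝔞, ∀ j ∈ J, algebraMap A C a * j = 0)
    (K : Ideal B) (hK : ∀ x ∈ K, (∀ y, w (x * y) = w x * w y) ∧ ∀ j ∈ J, w x * j = 0)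
    (hK𝔞 : 𝔞.map (algebraMap A B) ≤ K) (m : ℕ) (hK𝔟 : 𝔟 ^ m ≤ K)
    (D : Type u) [CommRing D] [Algebra A D] (p : D →ₐ[A] B) (q : D →ₐ[A] C)
    (hpq : ∀ d, Ideal.Quotient.mk J (q d) = u (p d))
    (hinj : ∀ d, p d = 0 → q d = 0 → d = 0)
    (hlift : ∀ x, ∃ d, p d = x ∧ q d = w x) :
    ∃ v : B →ₐ[A] C, (Ideal.Quotient.mkₐ A J).comp v = u := by
  have h1 : w 1 - 1 ∈ J := by rw [← Ideal.Quotient.eq, hw, map_one, map_one]
  let I : Ideal D :=
    { carrier := {d | p d ∈ K ∧ q d = w (p d)}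
      zero_mem' := by simp
      add_mem' := fun {a b} ha hb => by
        refine ⟨?_, ?_⟩
        · rw [map_add]; exact K.add_mem ha.1 hb.1
        · rw [map_add, map_add, map_add, ha.2, hb.2]
      smul_mem' := fun z d hd => by
        refine ⟨by rw [smul_eq_mul, map_mul]; exact K.mul_mem_left _ hd.1, ?_⟩
        have hj : q z - w (p z) ∈ J := by rw [← Ideal.Quotient.eq, hw, hpq]
        have h2 := (hK _ hd.1).2 _ hj
        have h3 := (hK _ hd.1).1 (p z)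
        rw [smul_eq_mul, map_mul, map_mul, hd.2, mul_comm (p z), h3]
        linear_combination h2 }
  have hI : ∀ d, d ∈ I ↔ p d ∈ K ∧ q d = w (p d) := fun d => Iff.rfl
  have hI𝔞 : ∀ a ∈ 𝔞, (algebraMap A (D ⧸ I)) a = 0 := by
    intro a ha
    refine Ideal.Quotient.eq_zero_iff_mem.mpr ((hI _).mpr ⟨?_, ?_⟩)
    · rw [AlgHom.commutes]; exact hK𝔞 (Ideal.mem_map_of_mem _ ha)
    · rw [AlgHom.commutes, AlgHom.commutes, Algebra.algebraMap_eq_smul_one (A := B), map_smul,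
        Algebra.smul_def]
      linear_combination -haJ a ha _ h1
  let _ : Algebra (A ⧸ 𝔞) (D ⧸ I) :=
    RingHom.toAlgebra (Ideal.Quotient.lift 𝔞 (algebraMap A (D ⧸ I)) hI𝔞)
  have : IsScalarTower A (A ⧸ 𝔞) (D ⧸ I) := IsScalarTower.of_algebraMap_eq fun a => rfl
  let π : (D ⧸ I) →ₐ[A] B ⧸ K := Ideal.Quotient.liftₐ I ((Ideal.Quotient.mkₐ A K).comp p)
    fun d hd => Ideal.Quotient.eq_zero_iff_mem.mpr ((hI d).mp hd).1
  have hπs : Function.Surjective π := by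
    intro z
    obtain ⟨x, rfl⟩ := Ideal.Quotient.mk_surjective z
    obtain ⟨d, hd, -⟩ := hlift x
    exact ⟨Ideal.Quotient.mk I d, congrArg (Ideal.Quotient.mk K) hd⟩
  let L : Ideal (D ⧸ I) := RingHom.ker π.toRingHom
  have hLrep : ∀ z ∈ L, ∃ d : D, Ideal.Quotient.mk I d = z ∧ p d = 0 ∧ q d ∈ J := by
    intro z hz
    obtain ⟨d, rfl⟩ := Ideal.Quotient.mk_surjective z
    have hd1 : p d ∈ K := Ideal.Quotient.eq_zero_iff_mem.mp hz
    obtain ⟨e, he1, he2⟩ := hlift (p d)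
    refine ⟨d - e, ?_, by rw [map_sub, he1, sub_self], ?_⟩
    · rw [map_sub, sub_eq_self, Ideal.Quotient.eq_zero_iff_mem, hI, he1]
      exact ⟨hd1, he2⟩
    · rw [map_sub, he2, ← Ideal.Quotient.eq, hw, hpq]
  have hL : L ^ 2 = ⊥ := by
    rw [eq_bot_iff, sq, Ideal.mul_le]
    intro x hx y hy
    obtain ⟨d, rfl, hd1, hd2⟩ := hLrep x hx
    obtain ⟨e, rfl, he1, he2⟩ := hLrep y hy
    rw [Ideal.mem_bot, ← map_mul]
    have : d * e = 0 := hinj _ (by rw [map_mul, hd1, zero_mul]) (by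
      rw [map_mul, ← Ideal.mem_bot, ← hJ, sq]; exact Ideal.mul_mem_mul hd2 he2)
    rw [this, map_zero]
  let e : ((D ⧸ I) ⧸ L) ≃ₐ[A] B ⧸ K := Ideal.quotientKerAlgEquivOfSurjective hπs
  let u₀ : B ⧸ 𝔞.map (algebraMap A B) →ₐ[A] (D ⧸ I) ⧸ L :=
    e.symm.toAlgHom.comp (Ideal.Quotient.factorₐ A hK𝔞)
  let u₁ : B ⧸ 𝔞.map (algebraMap A B) →ₐ[A ⧸ 𝔞] (D ⧸ I) ⧸ L :=
    { u₀.toRingHom with
      commutes' := fun a => by
        obtain ⟨a, rfl⟩ := Ideal.Quotient.mk_surjective a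
        exact (u₀.commutes a).trans rfl }
  obtain ⟨χ, hχ⟩ := h₀ (D ⧸ I) L ⟨2, hL⟩ ⟨1, by simp⟩ u₁ ⟨m, fun x hx => by
    rw [← Ideal.map_pow] at hx
    obtain ⟨y, hy, rfl⟩ := (Ideal.mem_map_iff_of_surjective _ Ideal.Quotient.mk_surjective).mp hx
    change e.symm (Ideal.Quotient.mk K y) = 0
    rw [Ideal.Quotient.eq_zero_iff_mem.mpr (hK𝔟 hy), map_zero]⟩
  let Φ : D →ₐ[A] (D ⧸ I) × B := (Ideal.Quotient.mkₐ A I).prod p
  have hΦ : Function.Injective Φ := by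
    rw [injective_iff_map_eq_zero]
    intro d hd
    have hdI : d ∈ I := Ideal.Quotient.eq_zero_iff_mem.mp (congrArg Prod.fst hd)
    have hd1 : p d = 0 := congrArg Prod.snd hd
    exact hinj d hd1 (by rw [((hI d).mp hdI).2, hd1, map_zero])
  let χ' : B →ₐ[A] (D ⧸ I) × B :=
    ((χ.restrictScalars A).comp (Ideal.Quotient.mkₐ A _)).prod (AlgHom.id A B)
  have hr : ∀ b, χ' b ∈ Φ.range := by
    intro b
    obtain ⟨d, hd⟩ := Ideal.Quotient.mk_surjective (χ (Ideal.Quotient.mk _ b))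
    have h2 : e (Ideal.Quotient.mk L (χ (Ideal.Quotient.mk _ b))) = Ideal.Quotient.mk K b := by
      have h3 : Ideal.Quotient.mk L (χ (Ideal.Quotient.mk _ b)) =
          e.symm (Ideal.Quotient.mk K b) := congrArg (fun f => f (Ideal.Quotient.mk _ b)) hχ
      rw [h3, AlgEquiv.apply_symm_apply]
    rw [← hd] at h2
    have hdb : b - p d ∈ K := Ideal.Quotient.eq.mp h2.symm
    obtain ⟨c, hc1, hc2⟩ := hlift (b - p d)
    refine ⟨d + c, Prod.ext ?_ ?_⟩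
    · change Ideal.Quotient.mk I (d + c) = χ (Ideal.Quotient.mk _ b)
      rw [map_add, hd, add_eq_left, Ideal.Quotient.eq_zero_iff_mem, hI, hc1]
      exact ⟨hdb, hc2⟩
    · change p (d + c) = b
      rw [map_add, hc1, add_sub_cancel]
  let v₀ : B →ₐ[A] D := (AlgEquiv.ofInjective Φ hΦ).symm.toAlgHom.comp (χ'.codRestrict _ hr)
  refine ⟨q.comp v₀, AlgHom.ext fun b => ?_⟩
  have h2 : Φ (v₀ b) = χ' b :=
    congrArg Subtype.val ((AlgEquiv.ofInjective Φ hΦ).apply_symm_apply (χ'.codRestrict _ hr b))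
  have h3 : p (v₀ b) = b := congrArg Prod.snd h2
  rw [AlgHom.comp_apply, AlgHom.comp_apply, Ideal.Quotient.mkₐ_eq_mk, hpq, h3]

/-- The base case: the kernel is killed by `𝔞`. -/
theorem exists_lift_of_map_mul_eq_bot (𝔞 : Ideal A) (𝔟 : Ideal B)
    (hproj : FormallyProjective 𝔞 𝔟)
    (h₀ : EGA41.IsFormallySmoothAdic (A ⧸ 𝔞) ⊥ (B ⧸ 𝔞.map (algebraMap A B))
      (𝔟.map (Ideal.Quotient.mk (𝔞.map (algebraMap A B)))))
    {C : Type u} [CommRing C] [Algebra A C] (J : Ideal C) (hJ : J ^ 2 = ⊥)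
    (h𝔞J : 𝔞.map (algebraMap A C) * J = ⊥)
    (hcont : ∃ k : ℕ, (𝔞 ^ k).map (algebraMap A C) = ⊥)
    (u : B →ₐ[A] C ⧸ J) (hu : ∃ k : ℕ, ∀ x ∈ 𝔟 ^ k, u x = 0) :
    ∃ v : B →ₐ[A] C, (Ideal.Quotient.mkₐ A J).comp v = u := by
  obtain ⟨w, ⟨m, hm⟩, hw⟩ := exists_linear_lift 𝔞 𝔟 hproj J hcont u hu
  have haJ : ∀ a ∈ 𝔞, ∀ j ∈ J, algebraMap A C a * j = 0 := fun a ha j hj => by
    rw [← Ideal.mem_bot, ← h𝔞J]; exact Ideal.mul_mem_mul (Ideal.mem_map_of_mem _ ha) hj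
  have hf : ∀ x y, w (x * y) - w x * w y ∈ J := fun x y => by
    rw [← Ideal.Quotient.eq, map_mul (Ideal.Quotient.mk J), hw, hw, hw, map_mul u]
  have h1 : w 1 - 1 ∈ J := by rw [← Ideal.Quotient.eq, hw, map_one, map_one]
  let K : Ideal B :=
    { carrier := {x | (∀ y, w (x * y) = w x * w y) ∧ ∀ j ∈ J, w x * j = 0}
      zero_mem' := ⟨fun y => by simp, fun j _ => by simp⟩
      add_mem' := fun {a b} ha hb => ⟨fun y => by rw [add_mul, map_add, map_add, ha.1, hb.1, add_mul],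
        fun j hj => by rw [map_add, add_mul, ha.2 j hj, hb.2 j hj, add_zero]⟩
      smul_mem' := fun z x hx => by
        have hzx : w (z * x) = w x * w z := by rw [mul_comm, hx.1]
        refine ⟨fun y => ?_, fun j hj => ?_⟩
        · have h2 : w x * (w (z * y) - w z * w y) = 0 := hx.2 _ (hf z y)
          rw [smul_eq_mul, hzx, show z * x * y = x * (z * y) by ring, hx.1]
          linear_combination h2
        · rw [smul_eq_mul, hzx, show w x * w z * j = w z * (w x * j) by ring, hx.2 j hj, mul_zero] }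
  have hK𝔞 : 𝔞.map (algebraMap A B) ≤ K := by
    rw [Ideal.map_le_iff_le_comap]
    intro a ha
    have h2 : w (algebraMap A B a) = algebraMap A C a := by
      rw [Algebra.algebraMap_eq_smul_one, map_smul, Algebra.smul_def]
      linear_combination haJ a ha _ h1
    exact ⟨fun y => by rw [h2, ← Algebra.smul_def, map_smul, Algebra.smul_def],
      fun j hj => by rw [h2]; exact haJ a ha j hj⟩
  have hK𝔟 : 𝔟 ^ m ≤ K := fun x hx =>
    ⟨fun y => by rw [hm _ (Ideal.mul_mem_right _ _ hx), hm _ hx, zero_mul],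
      fun j _ => by rw [hm _ hx, zero_mul]⟩
  let D : Subalgebra A (B × C) :=
    AlgHom.equalizer (u.comp (AlgHom.fst A B C)) ((Ideal.Quotient.mkₐ A J).comp (AlgHom.snd A B C))
  exact exists_lift_aux 𝔞 𝔟 h₀ J hJ u w hw haJ K (fun x hx => hx) hK𝔞 m hK𝔟 D
    ((AlgHom.fst A B C).comp D.val) ((AlgHom.snd A B C).comp D.val) (fun d => d.2.symm)
    (fun d h h' => Subtype.ext (Prod.ext h h')) (fun x => ⟨⟨(x, w x), (hw x).symm⟩, rfl, rfl⟩)

/-- Formal smoothness of a formally projective algebra is tested modulo `𝔞`. -/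
theorem iff_quotient_of_formallyProjective (𝔞 : Ideal A) (𝔟 : Ideal B)
    (hproj : FormallyProjective 𝔞 𝔟) :
    EGA41.IsFormallySmoothAdic A 𝔞 B 𝔟 ↔
      EGA41.IsFormallySmoothAdic (A ⧸ 𝔞) ⊥ (B ⧸ 𝔞.map (algebraMap A B))
        (𝔟.map (Ideal.Quotient.mk (𝔞.map (algebraMap A B)))) := by
  constructor
  · intro h
    intro T _ _ J hJ _ u hu
    let _ := ((algebraMap (A ⧸ 𝔞) T).comp (Ideal.Quotient.mk 𝔞)).toAlgebra
    have : IsScalarTower A (A ⧸ 𝔞) T := IsScalarTower.of_algebraMap_eq fun a => rfl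
    have hcA : (𝔞 ^ 1).map (algebraMap A T) = ⊥ := by
      rw [pow_one, IsScalarTower.algebraMap_eq A (A ⧸ 𝔞) T, ← Ideal.map_map,
        show algebraMap A (A ⧸ 𝔞) = Ideal.Quotient.mk _ from rfl, Ideal.map_quotient_self,
        Ideal.map_bot]
    obtain ⟨v, hv⟩ := h T J hJ ⟨1, hcA⟩ ((u.restrictScalars A).comp (Ideal.Quotient.mkₐ A _)) (by
      obtain ⟨l, hl⟩ := hu
      refine ⟨l, fun x hx => hl _ ?_⟩
      rw [← Ideal.map_pow]
      exact Ideal.mem_map_of_mem _ hx)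
    have hker : ∀ x ∈ 𝔞.map (algebraMap A B), v.toRingHom x = 0 := by
      intro x hx
      have : x ∈ RingHom.ker v.toRingHom := by
        refine Ideal.map_le_iff_le_comap.mpr (fun a ha => ?_) hx
        rw [Ideal.mem_comap, RingHom.mem_ker]
        change v (algebraMap A B a) = 0
        rw [AlgHom.commutes]
        exact Ideal.mem_bot.mp (hcA ▸ Ideal.mem_map_of_mem _ (by rwa [pow_one]))
      exact this
    refine ⟨{ Ideal.Quotient.lift _ v.toRingHom hker with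
        commutes' := fun a => by
          obtain ⟨a, rfl⟩ := Ideal.Quotient.mk_surjective a
          exact (v.commutes a).trans rfl }, AlgHom.ext fun b => ?_⟩
    obtain ⟨b, rfl⟩ := Ideal.Quotient.mk_surjective b
    exact congrArg (fun f => f b) hv
  · intro h₀
    refine of_sq_zero 𝔞 𝔟 fun C _ _ J hJ hcont u hu => ?_
    obtain ⟨k, hk⟩ := hcont
    suffices ∀ i (C : Type u) [CommRing C] [Algebra A C] (J : Ideal C), J ^ 2 = ⊥ →
        𝔞.map (algebraMap A C) ^ i * J = ⊥ → (∃ k : ℕ, (𝔞 ^ k).map (algebraMap A C) = ⊥) →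
        ∀ u : B →ₐ[A] C ⧸ J, (∃ k : ℕ, ∀ x ∈ 𝔟 ^ k, u x = 0) →
          ∃ v : B →ₐ[A] C, (Ideal.Quotient.mkₐ A J).comp v = u from
      this k C J hJ (by rw [← Ideal.map_pow, hk, Ideal.bot_mul]) ⟨k, hk⟩ u hu
    intro i
    induction i with
    | zero =>
      intro C _ _ J hJ hJ0 _ u _
      rw [pow_zero, one_mul] at hJ0
      refine ⟨((AlgEquiv.quotientBot A C).toAlgHom.comp
        (Ideal.quotientEquivAlgOfEq A hJ0).toAlgHom).comp u, AlgHom.ext fun b => ?_⟩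
      obtain ⟨c, hc⟩ := Ideal.Quotient.mk_surjective (u b)
      rw [← hc]
      simp [← hc]
    | succ i ih =>
      intro C _ _ J hJ hJi hcont u hu
      let J₁ : Ideal C := 𝔞.map (algebraMap A C) * J
      have hle : J₁ ≤ J := Ideal.mul_le_right
      let J' : Ideal (C ⧸ J₁) := J.map (Ideal.Quotient.mk J₁)
      let e : ((C ⧸ J₁) ⧸ J') ≃ₐ[A] C ⧸ J := DoubleQuot.quotQuotEquivQuotOfLEₐ A hle
      obtain ⟨k, hk⟩ := hcont
      have hu' : ∃ l : ℕ, ∀ x ∈ 𝔟 ^ l, (e.symm.toAlgHom.comp u) x = 0 := by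
        obtain ⟨l, hl⟩ := hu
        exact ⟨l, fun x hx => by simp [hl x hx]⟩
      have hJ'2 : J' ^ 2 = ⊥ := by rw [← Ideal.map_pow, hJ, Ideal.map_bot]
      obtain ⟨v₁, hv₁⟩ := exists_lift_of_map_mul_eq_bot 𝔞 𝔟 hproj h₀ J' hJ'2
        (by rw [IsScalarTower.algebraMap_eq A C (C ⧸ J₁), ← Ideal.map_map,
          Ideal.Quotient.algebraMap_eq, ← Ideal.map_mul]; exact Ideal.map_quotient_self J₁)
        ⟨k, by rw [IsScalarTower.algebraMap_eq A C (C ⧸ J₁), ← Ideal.map_map, hk, Ideal.map_bot]⟩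
        (e.symm.toAlgHom.comp u) hu'
      have hJ₁ : J₁ ^ 2 = ⊥ := le_bot_iff.mp ((Ideal.pow_right_mono hle 2).trans hJ.le)
      obtain ⟨v, hv⟩ := ih C J₁ hJ₁ (by rw [← mul_assoc, ← pow_succ, hJi]) ⟨k, hk⟩ v₁
        (vanish_of_lift ⟨2, hJ'2⟩ v₁ _ hv₁ 𝔟 hu')
      refine ⟨v, AlgHom.ext fun b => ?_⟩
      have h2 : Ideal.Quotient.mk J' (v₁ b) = e.symm (u b) := congrArg (fun f => f b) hv₁
      rw [← hv] at h2
      have h3 := congrArg e h2
      rw [AlgEquiv.apply_symm_apply] at h3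
      exact h3

/-- A faithfully flat projective algebra retracts onto the base. -/
theorem exists_retraction (A A' : Type u) [CommRing A] [CommRing A'] [Algebra A A']
    [Module.FaithfullyFlat A A'] [Module.Projective A A'] :
    ∃ ρ : A' →ₗ[A] A, ρ 1 = 1 := by
  let T : Ideal A :=
    { carrier := {a | ∃ ρ : A' →ₗ[A] A, ρ 1 = a}
      zero_mem' := ⟨0, rfl⟩
      add_mem' := fun {a b} ⟨ρ, hρ⟩ ⟨σ, hσ⟩ => ⟨ρ + σ, by rw [LinearMap.add_apply, hρ, hσ]⟩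
      smul_mem' := fun c a ⟨ρ, hρ⟩ => ⟨c • ρ, by rw [LinearMap.smul_apply, hρ]⟩ }
  suffices h : (1 : A) ∈ T from h
  rw [← Ideal.eq_top_iff_one]
  by_contra hne
  obtain ⟨m, hm, hle⟩ := Ideal.exists_le_maximal T hne
  obtain ⟨s, hs⟩ := Module.projective_def.mp ‹Module.Projective A A'›
  have h1 : (1 : A') ∈ m • (⊤ : Submodule A A') := by
    rw [← hs 1, Finsupp.linearCombination_apply]
    exact Submodule.sum_mem _ fun x _ => Submodule.smul_mem_smul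
      (hle ⟨(Finsupp.lapply x).comp s, rfl⟩) Submodule.mem_top
  refine Module.FaithfullyFlat.submodule_ne_top hm (M := A') (eq_top_iff.mpr fun z _ => ?_)
  rw [Ideal.smul_top_eq_map, Submodule.restrictScalars_mem] at h1 ⊢
  rw [← mul_one z]
  exact Ideal.mul_mem_left _ z h1

/-- Faithfully flat descent of formal smoothness for formally projective algebras. -/
theorem of_baseChange {A' : Type u} [CommRing A'] [Algebra A A'] (𝔞 : Ideal A) (𝔟 : Ideal B)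
    (hproj : FormallyProjective 𝔞 𝔟)
    (ρ : A' →ₗ[A] A) (hρ : ρ 1 = 1)
    (h : EGA41.IsFormallySmoothAdic A' (𝔞.map (algebraMap A A')) (A' ⊗[A] B)
      ((𝔞.map (algebraMap A A')).map (algebraMap A' (A' ⊗[A] B)) ⊔
        𝔟.map (Algebra.TensorProduct.includeRight : B →ₐ[A] A' ⊗[A] B).toRingHom)) :
    EGA41.IsFormallySmoothAdic A 𝔞 B 𝔟 := by
  refine of_sq_zero 𝔞 𝔟 fun C _ _ J hJ hcont u hu => ?_
  obtain ⟨w, -, hw⟩ := exists_linear_lift 𝔞 𝔟 hproj J hcont u hu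
  let P : A' ⊗[A] C →ₐ[A'] A' ⊗[A] (C ⧸ J) :=
    Algebra.TensorProduct.map (AlgHom.id A' A') (Ideal.Quotient.mkₐ A J)
  have hP : Function.Surjective P := by
    have : ⇑P = ⇑((Ideal.Quotient.mkₐ A J).toLinearMap.lTensor A') := by
      funext z
      induction z using TensorProduct.induction_on with
      | zero => simp
      | tmul a c => rfl
      | add a b ha hb => rw [map_add, map_add, ha, hb]
    rw [this]
    exact LinearMap.lTensor_surjective A' Ideal.Quotient.mk_surjective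
  let J' : Ideal (A' ⊗[A] C) := RingHom.ker P.toRingHom
  have hJ' : J' = J.map (Algebra.TensorProduct.includeRight : C →ₐ[A] A' ⊗[A] C) := by
    have := Algebra.TensorProduct.lTensor_ker (A := A') (Ideal.Quotient.mkₐ A J)
      Ideal.Quotient.mk_surjective
    have hk2 : RingHom.ker (Ideal.Quotient.mkₐ A J) = J := Ideal.mk_ker
    rw [hk2] at this
    exact this
  have hJ'2 : J' ^ 2 = ⊥ := by rw [hJ', ← Ideal.map_pow, hJ, Ideal.map_bot]
  obtain ⟨k, hk⟩ := hcont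
  have hk' : ((𝔞.map (algebraMap A A')) ^ k).map (algebraMap A' (A' ⊗[A] C)) = ⊥ := by
    rw [← Ideal.map_pow, Ideal.map_map, ← IsScalarTower.algebraMap_eq A A' (A' ⊗[A] C),
      ← (Algebra.TensorProduct.includeRight : C →ₐ[A] A' ⊗[A] C).comp_algebraMap,
      ← Ideal.map_map, hk, Ideal.map_bot]
  let e : ((A' ⊗[A] C) ⧸ J') ≃ₐ[A'] A' ⊗[A] (C ⧸ J) := Ideal.quotientKerAlgEquivOfSurjective hP
  let u' : A' ⊗[A] B →ₐ[A'] (A' ⊗[A] C) ⧸ J' :=
    e.symm.toAlgHom.comp (Algebra.TensorProduct.map (AlgHom.id A' A') u)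
  obtain ⟨l, hl⟩ := hu
  have hu' : ∃ n : ℕ, ∀ x ∈ ((𝔞.map (algebraMap A A')).map (algebraMap A' (A' ⊗[A] B)) ⊔
      𝔟.map (Algebra.TensorProduct.includeRight : B →ₐ[A] A' ⊗[A] B).toRingHom) ^ n, u' x = 0 := by
    refine ⟨k + l, fun x hx => ?_⟩
    have hsup := Ideal.sup_pow_add_le_pow_sup_pow hx
    refine (sup_le (a := _) ?_ ?_ : _ ≤ RingHom.ker u'.toRingHom) hsup
    · rw [← Ideal.map_pow, Ideal.map_le_iff_le_comap]
      intro a ha
      rw [Ideal.mem_comap, RingHom.mem_ker]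
      change u' (algebraMap A' _ a) = 0
      have h0 : algebraMap A' (A' ⊗[A] C) a = 0 := by
        rw [← Ideal.mem_bot, ← hk']; exact Ideal.mem_map_of_mem _ ha
      rw [AlgHom.commutes, IsScalarTower.algebraMap_apply A' (A' ⊗[A] C) _, h0, map_zero]
    · rw [← Ideal.map_pow, Ideal.map_le_iff_le_comap]
      intro b hb
      rw [Ideal.mem_comap, RingHom.mem_ker]
      change e.symm ((1 : A') ⊗ₜ[A] u b) = 0
      rw [hl b hb, tmul_zero, map_zero]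
  obtain ⟨χ, hχ⟩ := h (A' ⊗[A] C) J' ⟨2, hJ'2⟩ ⟨k, hk'⟩ u' hu'
  let R : A' ⊗[A] C →ₗ[A] C := (TensorProduct.lid A C).toLinearMap ∘ₗ ρ.rTensor C
  let Rq : A' ⊗[A] (C ⧸ J) →ₗ[A] (C ⧸ J) :=
    (TensorProduct.lid A (C ⧸ J)).toLinearMap ∘ₗ ρ.rTensor (C ⧸ J)
  have hR1 : ∀ c, R ((1 : A') ⊗ₜ[A] c) = c := fun c => by simp [R, hρ]
  have hRmul : ∀ (c : C) z, R (((1 : A') ⊗ₜ[A] c) * z) = c * R z := by
    intro c z
    induction z using TensorProduct.induction_on with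
    | zero => simp
    | tmul a d => simp [R, Algebra.TensorProduct.tmul_mul_tmul, mul_smul_comm]
    | add a b ha hb => rw [mul_add, map_add, map_add, mul_add, ha, hb]
  have hRq : ∀ z, Ideal.Quotient.mk J (R z) = Rq (P z) := by
    intro z
    induction z using TensorProduct.induction_on with
    | zero => simp
    | tmul a d => simp [R, Rq, P, Algebra.smul_def]
    | add a b ha hb => simp only [map_add, ha, hb]
  have hPχ : ∀ b, P (χ ((1 : A') ⊗ₜ[A] b)) = (1 : A') ⊗ₜ[A] u b := by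
    intro b
    have h2 : Ideal.Quotient.mk J' (χ ((1 : A') ⊗ₜ[A] b)) = e.symm ((1 : A') ⊗ₜ[A] u b) :=
      congrArg (fun f => f ((1 : A') ⊗ₜ[A] b)) hχ
    have h3 := congrArg e h2
    rw [AlgEquiv.apply_symm_apply] at h3
    exact h3
  let v : B →ₗ[A] C :=
    R ∘ₗ (χ.restrictScalars A).toLinearMap ∘ₗ
      (Algebra.TensorProduct.includeRight : B →ₐ[A] A' ⊗[A] B).toLinearMap
  have hv : ∀ b, v b = R (χ ((1 : A') ⊗ₜ[A] b)) := fun b => rfl
  have hvu : ∀ b, Ideal.Quotient.mk J (v b) = u b := fun b => by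
    rw [hv, hRq, hPχ]; simp [Rq, hρ]
  have hmul : ∀ x y, v (x * y) = v x * v y := by
    intro x y
    have hδ : ∀ b, χ ((1 : A') ⊗ₜ[A] b) - (1 : A') ⊗ₜ[A] w b ∈ J' := fun b => by
      rw [RingHom.mem_ker]
      change P (_ - _) = 0
      rw [map_sub, hPχ]
      simp [P, hw]
    have hδδ : (χ ((1 : A') ⊗ₜ[A] x) - (1 : A') ⊗ₜ[A] w x) *
        (χ ((1 : A') ⊗ₜ[A] y) - (1 : A') ⊗ₜ[A] w y) = 0 := by
      rw [← Ideal.mem_bot, ← hJ'2, sq]; exact Ideal.mul_mem_mul (hδ x) (hδ y)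
    have hprod : χ ((1 : A') ⊗ₜ[A] (x * y)) =
        ((1 : A') ⊗ₜ[A] w x) * χ ((1 : A') ⊗ₜ[A] y) + ((1 : A') ⊗ₜ[A] w y) * χ ((1 : A') ⊗ₜ[A] x) -
          (1 : A') ⊗ₜ[A] (w x * w y) := by
      have h1 : χ ((1 : A') ⊗ₜ[A] (x * y)) = χ ((1 : A') ⊗ₜ[A] x) * χ ((1 : A') ⊗ₜ[A] y) := by
        rw [← map_mul, Algebra.TensorProduct.tmul_mul_tmul, mul_one]
      have h2 : ((1 : A') ⊗ₜ[A] (w x * w y)) = ((1 : A') ⊗ₜ[A] w x) * ((1 : A') ⊗ₜ[A] w y) := by
        rw [Algebra.TensorProduct.tmul_mul_tmul, mul_one]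
      linear_combination h1 + hδδ + h2
    have hw2 : (v x - w x) * (v y - w y) = 0 := by
      rw [← Ideal.mem_bot, ← hJ, sq]
      exact Ideal.mul_mem_mul (by rw [← Ideal.Quotient.eq, hvu, hw])
        (by rw [← Ideal.Quotient.eq, hvu, hw])
    rw [hv, hprod, map_sub, map_add, hRmul, hRmul, hR1, ← hv, ← hv]
    linear_combination -hw2
  refine ⟨AlgHom.ofLinearMap v ?_ hmul, AlgHom.ext hvu⟩
  have : (1 : A') ⊗ₜ[A] (1 : B) = 1 := rfl
  rw [hv, this, map_one, show (1 : A' ⊗[A] C) = (1 : A') ⊗ₜ[A] (1 : C) from rfl, hR1]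

end Groth.Agent.FSAdic
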