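import Groth.Prelude.Def_EGA41
import Mathlib

/-! Differentials of an adically formally smooth algebra modulo an open ideal are projective. -/

set_option autoImplicit false

open TensorProduct

namespace Groth.Agent.FSAdic

universe u

variable {A B : Type u} [CommRing A] [CommRing B] [Algebra A B]

theorem mem_pow_smul_eq_zero {M : Type*} [AddCommGroup M] [Module B M] [Module A M]
    (I : Ideal B)
    (hI : ∀ x ∈ I, ∀ m : M, x • m = 0) (d : Derivation A B M) :
    ∀ x ∈ I * I, d x = 0 := by
  intro x hx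
  induction hx using Submodule.mul_induction_on' with
  | mem_mul_mem a ha b hb => rw [Derivation.leibniz, hI a ha, hI b hb, add_zero]
  | add a _ b _ h1 h2 => rw [map_add, h1, h2, add_zero]

theorem exists_derivation_lift (𝔞 : Ideal A) (𝔟 : Ideal B)
    (hAB : ∃ k : ℕ, (𝔞 ^ k).map (algebraMap A B) ≤ 𝔟) (h : EGA41.IsFormallySmoothAdic A 𝔞 B 𝔟)
    (𝔄 : Ideal B) (h𝔄 : ∃ n : ℕ, 𝔟 ^ n ≤ 𝔄) {P Q : Type u} [AddCommGroup P] [Module B P]
    [Module A P] [IsScalarTower A B P] [AddCommGroup Q] [Module B Q] [Module A Q]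
    [IsScalarTower A B Q] [Module (B ⧸ 𝔄) P] [IsScalarTower B (B ⧸ 𝔄) P] [Module (B ⧸ 𝔄) Q]
    [IsScalarTower B (B ⧸ 𝔄) Q]
    (f : P →ₗ[B ⧸ 𝔄] Q) (hf : Function.Surjective f) (d : Derivation A B Q) :
    ∃ d' : Derivation A B P, ∀ b, f (d' b) = d b := by
  classical
  letI : Module (B ⧸ 𝔄)ᵐᵒᵖ P := Module.compHom P ((RingHom.id (B ⧸ 𝔄)).fromOpposite mul_comm)
  haveI : IsCentralScalar (B ⧸ 𝔄) P := ⟨fun r m => rfl⟩
  letI : Module (B ⧸ 𝔄)ᵐᵒᵖ Q := Module.compHom Q ((RingHom.id (B ⧸ 𝔄)).fromOpposite mul_comm)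
  haveI : IsCentralScalar (B ⧸ 𝔄) Q := ⟨fun r m => rfl⟩
  haveI : IsScalarTower A (B ⧸ 𝔄) P := .to₁₃₄ A B _ _
  haveI : IsScalarTower A (B ⧸ 𝔄) Q := .to₁₃₄ A B _ _
  let R := B ⧸ 𝔄
  let π : TrivSqZeroExt R P →ₐ[R] TrivSqZeroExt R Q := TrivSqZeroExt.map f
  have hπfst : ∀ z, (π z).fst = z.fst := fun z => TrivSqZeroExt.fst_map f z
  have hπsnd : ∀ z, (π z).snd = f z.snd := fun z => TrivSqZeroExt.snd_map f z
  let J : Ideal (TrivSqZeroExt R P) := RingHom.ker π.toRingHom
  have hJ2 : J ^ 2 = ⊥ := by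
    rw [eq_bot_iff, sq, Ideal.mul_le]
    intro x hx y hy
    rw [Ideal.mem_bot]
    have hx1 : x.fst = 0 := by rw [← hπfst, show π x = 0 from hx, TrivSqZeroExt.fst_zero]
    have hy1 : y.fst = 0 := by rw [← hπfst, show π y = 0 from hy, TrivSqZeroExt.fst_zero]
    refine TrivSqZeroExt.ext ?_ ?_
    · simp [hx1]
    · simp [hx1, hy1]
  have hπs : Function.Surjective π := by
    intro z
    obtain ⟨w, hw⟩ := hf z.snd
    exact ⟨TrivSqZeroExt.inl z.fst + TrivSqZeroExt.inr w,
      TrivSqZeroExt.ext (by simp [hπfst]) (by simp [hπsnd, hw])⟩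
  -- the section `b ↦ (b, d b)`
  let u₀ : B →ₐ[A] TrivSqZeroExt R Q :=
    { toFun := fun b => TrivSqZeroExt.inl (Ideal.Quotient.mk 𝔄 b) + TrivSqZeroExt.inr (d b)
      map_one' := by simp
      map_mul' := fun a b => by
        refine TrivSqZeroExt.ext (by simp) ?_
        simp only [TrivSqZeroExt.snd_add, TrivSqZeroExt.snd_inl, TrivSqZeroExt.snd_inr, zero_add,
          TrivSqZeroExt.snd_mul, TrivSqZeroExt.fst_add, TrivSqZeroExt.fst_inl,
          TrivSqZeroExt.fst_inr, add_zero, op_smul_eq_smul, Derivation.leibniz]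
        rw [← IsScalarTower.algebraMap_smul R a, ← IsScalarTower.algebraMap_smul R b]
        rfl
      map_zero' := by simp
      map_add' := fun a b => by simp [add_add_add_comm]
      commutes' := fun a => by
        simp only [Derivation.map_algebraMap, TrivSqZeroExt.inr_zero, add_zero]
        rfl }
  let e : (TrivSqZeroExt R P ⧸ J) ≃ₐ[A] TrivSqZeroExt R Q :=
    Ideal.quotientKerAlgEquivOfSurjective (f := π.restrictScalars A) hπs
  obtain ⟨n, hn⟩ := h𝔄
  obtain ⟨k, hk⟩ := hAB
  obtain ⟨v, hv⟩ := h (TrivSqZeroExt R P) J ⟨2, hJ2⟩ ⟨k * n, by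
      rw [Ideal.map_eq_bot_iff_le_ker]
      intro a ha
      have h1 : algebraMap A B a ∈ 𝔄 := by
        refine hn ?_
        have := Ideal.mem_map_of_mem (algebraMap A B) ha
        rw [pow_mul, Ideal.map_pow] at this
        exact Ideal.pow_right_mono hk n this
      rw [RingHom.mem_ker]
      change TrivSqZeroExt.inl (algebraMap A R a) = 0
      rw [IsScalarTower.algebraMap_apply A B R, Ideal.Quotient.algebraMap_eq,
        Ideal.Quotient.eq_zero_iff_mem.mpr h1, TrivSqZeroExt.inl_zero]⟩
    (e.symm.toAlgHom.comp u₀) ⟨n + n, fun x hx => by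
      have hann : ∀ y ∈ 𝔄, ∀ m : Q, y • m = 0 := fun y hy m => by
        rw [← IsScalarTower.algebraMap_smul R y, Ideal.Quotient.algebraMap_eq,
          Ideal.Quotient.eq_zero_iff_mem.mpr hy, zero_smul]
      have hx1 : x ∈ 𝔄 * 𝔄 := by
        rw [pow_add] at hx
        exact Ideal.mul_mono hn hn hx
      have : u₀ x = 0 := by
        refine TrivSqZeroExt.ext ?_ ?_
        · simp [u₀, Ideal.Quotient.eq_zero_iff_mem.mpr (Ideal.mul_le_left hx1)]
        · simp [u₀, mem_pow_smul_eq_zero 𝔄 hann d x hx1]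
      rw [AlgHom.comp_apply, this, map_zero]⟩
  have hπv : ∀ b, π (v b) = u₀ b := fun b => by
    have h1 : Ideal.Quotient.mk J (v b) = e.symm (u₀ b) := congrArg (fun φ => φ b) hv
    have h2 := congrArg e h1
    rw [AlgEquiv.apply_symm_apply] at h2
    exact h2
  have hfst : ∀ b, (v b).fst = Ideal.Quotient.mk 𝔄 b := fun b => by
    rw [← hπfst, hπv]; simp [u₀]
  let D₀ : B →ₗ[A] P :=
    { toFun := fun b => (v b).snd
      map_add' := fun a b => by simp
      map_smul' := fun r b => by simp }
  refine ⟨Derivation.mk' D₀ (fun a b => ?_), fun b => ?_⟩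
  · change (v (a * b)).snd = a • (v b).snd + b • (v a).snd
    rw [map_mul, TrivSqZeroExt.snd_mul, hfst, hfst, op_smul_eq_smul,
      ← IsScalarTower.algebraMap_smul R a, ← IsScalarTower.algebraMap_smul R b]
    rfl
  · change f (v b).snd = d b
    rw [← hπsnd, hπv]; simp [u₀]

/-- Differentials modulo an open ideal are projective. -/
theorem projective_kaehler_quotient (𝔞 : Ideal A) (𝔟 : Ideal B)
    (hAB : ∃ k : ℕ, (𝔞 ^ k).map (algebraMap A B) ≤ 𝔟) (h : EGA41.IsFormallySmoothAdic A 𝔞 B 𝔟)
    (𝔄 : Ideal B) (h𝔄 : ∃ n : ℕ, 𝔟 ^ n ≤ 𝔄) :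
    Module.Projective (B ⧸ 𝔄) ((B ⧸ 𝔄) ⊗[B] Ω[B⁄A]) := by
  refine Module.Projective.of_lifting_property fun {P} {Q} _ _ _ _ f g hf => ?_
  letI : Module B P := Module.compHom P (algebraMap B (B ⧸ 𝔄))
  letI : Module B Q := Module.compHom Q (algebraMap B (B ⧸ 𝔄))
  letI : Module A P := Module.compHom P (algebraMap A B)
  letI : Module A Q := Module.compHom Q (algebraMap A B)
  haveI : IsScalarTower B (B ⧸ 𝔄) P := .of_algebraMap_smul fun _ _ => rfl
  haveI : IsScalarTower B (B ⧸ 𝔄) Q := .of_algebraMap_smul fun _ _ => rfl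
  haveI : IsScalarTower A B P := .of_algebraMap_smul fun _ _ => rfl
  haveI : IsScalarTower A B Q := .of_algebraMap_smul fun _ _ => rfl
  obtain ⟨d', hd'⟩ := exists_derivation_lift 𝔞 𝔟 hAB h 𝔄 h𝔄 f hf
    (((g.restrictScalars B).comp (TensorProduct.mk B (B ⧸ 𝔄) Ω[B⁄A] 1)).compDer
      (KaehlerDifferential.D A B))
  refine ⟨(d'.liftKaehlerDifferential).liftBaseChange (B ⧸ 𝔄), ?_⟩
  refine TensorProduct.AlgebraTensorModule.ext fun a ω => ?_
  have key : (f.restrictScalars B).comp d'.liftKaehlerDifferential =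
      (g.restrictScalars B).comp (TensorProduct.mk B (B ⧸ 𝔄) Ω[B⁄A] 1) :=
    Derivation.liftKaehlerDifferential_unique _ _ (Derivation.ext fun b => by
      simpa using hd' b)
  have := LinearMap.congr_fun key ω
  simp only [LinearMap.coe_comp, LinearMap.coe_restrictScalars, Function.comp_apply,
    TensorProduct.mk_apply] at this
  rw [LinearMap.comp_apply, LinearMap.liftBaseChange_tmul, map_smul, this, ← map_smul,
    TensorProduct.smul_tmul', smul_eq_mul, mul_one]

/-- A projective module over a local ring with nilpotent maximal ideal is free. -/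
theorem free_of_projective_of_isNilpotent {R M : Type u} [CommRing R] [IsLocalRing R]
    (hnil : IsNilpotent (IsLocalRing.maximalIdeal R)) [AddCommGroup M] [Module R M]
    [Module.Projective R M] : Module.Free R M := by
  classical
  obtain ⟨k, hk⟩ := hnil
  let K := R ⧸ IsLocalRing.maximalIdeal R
  letI : Field K := Ideal.Quotient.field _
  obtain ⟨⟨ι, b⟩⟩ := Module.Free.exists_basis (R := K) (M := K ⊗[R] M)
  have hsurj : Function.Surjective (TensorProduct.mk R K M 1) :=
    TensorProduct.mk_surjective R M K Ideal.Quotient.mk_surjective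
  choose x hx using fun i => hsurj (b i)
  let l := Finsupp.linearCombination R x
  have hlK : Function.Bijective (l.lTensor K) := by
    let F := l.baseChange K ∘ₗ (TensorProduct.finsuppScalarRight R K K _).symm.toLinearMap
    have hF : F = b.repr.symm.toLinearMap := by
      refine Finsupp.lhom_ext' fun i => LinearMap.ext_ring ?_
      simp only [TensorProduct.mk_apply] at hx
      simp [F, l, hx]
    have hb : Function.Bijective F := hF ▸ b.repr.symm.bijective
    have : ⇑(l.lTensor K) = ⇑F ∘ ⇑(TensorProduct.finsuppScalarRight R K K _) := by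
      funext z; simp [F, LinearMap.baseChange_eq_ltensor]
    rw [this]
    exact hb.comp (LinearEquiv.bijective _)
  -- a module killed by tensoring with the residue field vanishes
  have nak : ∀ (N : Type u) [AddCommGroup N] [Module R N], Subsingleton (K ⊗[R] N) →
      Subsingleton N := by
    intro N _ _ hN
    let e := TensorProduct.quotTensorEquivQuotSMul N (IsLocalRing.maximalIdeal R)
    have htop : IsLocalRing.maximalIdeal R • (⊤ : Submodule R N) = ⊤ := by
      rw [← Submodule.Quotient.subsingleton_iff]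
      exact e.symm.toEquiv.subsingleton
    have hpow : ∀ j, IsLocalRing.maximalIdeal R ^ j • (⊤ : Submodule R N) = ⊤ := by
      intro j
      induction j with
      | zero => simp
      | succ j ih => rw [pow_succ, Submodule.mul_smul, htop, ih]
    have := hpow k
    rw [hk, Submodule.zero_eq_bot, Submodule.bot_smul] at this
    exact subsingleton_of_forall_eq 0 fun z => by
      simpa using (this.symm ▸ Submodule.mem_top : z ∈ (⊥ : Submodule R N))
  have hls : Function.Surjective l := by
    have : Subsingleton (K ⊗[R] (M ⧸ LinearMap.range l)) := by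
      refine subsingleton_of_forall_eq 0 fun z => ?_
      obtain ⟨y, rfl⟩ := LinearMap.lTensor_surjective K (Submodule.mkQ_surjective _) z
      obtain ⟨w, rfl⟩ := hlK.2 y
      rw [← LinearMap.comp_apply, ← LinearMap.lTensor_comp, LinearMap.range_mkQ_comp,
        LinearMap.lTensor_zero, LinearMap.zero_apply]
    rw [← LinearMap.range_eq_top, ← Submodule.Quotient.subsingleton_iff]
    exact nak _ this
  obtain ⟨s, hs⟩ := Module.projective_lifting_property l LinearMap.id hls
  have hli : Function.Injective l := by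
    rw [← LinearMap.ker_eq_bot, ← Submodule.subsingleton_iff_eq_bot]
    refine nak _ (subsingleton_of_forall_eq 0 fun z => ?_)
    let r : (ι →₀ R) →ₗ[R] LinearMap.ker l :=
      (LinearMap.id - s ∘ₗ l).codRestrict _ fun y => by
        rw [LinearMap.mem_ker, LinearMap.sub_apply, map_sub, LinearMap.id_apply,
          LinearMap.comp_apply]
        have := LinearMap.congr_fun hs (l y)
        rw [LinearMap.comp_apply, LinearMap.id_apply] at this
        rw [this, sub_self]
    have hr : r ∘ₗ (LinearMap.ker l).subtype = LinearMap.id :=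
      LinearMap.ext fun y => Subtype.ext (by simp [r, LinearMap.mem_ker.mp y.2])
    have h0 : (LinearMap.ker l).subtype.lTensor K z = 0 := hlK.1 (by
      rw [map_zero, ← LinearMap.comp_apply, ← LinearMap.lTensor_comp, LinearMap.comp_ker_subtype,
        LinearMap.lTensor_zero, LinearMap.zero_apply])
    have := congrArg (r.lTensor K) h0
    rwa [← LinearMap.comp_apply, ← LinearMap.lTensor_comp, hr, LinearMap.lTensor_id,
      LinearMap.id_apply, map_zero] at this
  exact Module.Free.of_equiv (LinearEquiv.ofBijective l ⟨hli, hls⟩)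

end Groth.Agent.FSAdic
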