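import Groth.Prelude.Def_EGA41
import Groth.Prelude.Def_CAlgX
import Groth.Agent.FSAdic.Basic
import Mathlib

/-! Adic formal smoothness of a local algebra is tested on small extensions of local rings. -/

set_option autoImplicit false

open IsLocalRing

namespace Groth.Agent.FSAdic

universe u

/-- The lifting property along small extensions of local `R`-algebras with nilpotent maximal ideal
(Artinian when `S` is Noetherian) and trivial residue extension. -/
def SmallLifting (R S : Type u) [CommRing R] [CommRing S] [IsLocalRing R] [IsLocalRing S]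
    [Algebra R S] : Prop :=
  ∀ (C : Type u) [CommRing C] [IsLocalRing C] [Algebra R C] [IsLocalHom (algebraMap R C)]
    (J : Ideal C), J ^ 2 = ⊥ → Module.length C J = 1 → (∃ n : ℕ, maximalIdeal C ^ n = ⊥) →
    (IsNoetherianRing S → IsArtinianRing C) →
    ∀ [IsLocalRing (C ⧸ J)] (u : S →ₐ[R] C ⧸ J) [IsLocalHom u.toRingHom],
      Function.Bijective (ResidueField.map u.toRingHom) →
      ∃ v : S →ₐ[R] C, (Ideal.Quotient.mkₐ R J).comp v = u

variable {R S : Type u} [CommRing R] [CommRing S] [IsLocalRing R] [IsLocalRing S] [Algebra R S]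
  [IsLocalHom (algebraMap R S)]

/-- The key step: a surjection with kernel killed by the maximal ideal. -/
theorem lift_of_small (h : SmallLifting R S) {A : Type u} [CommRing A] [Algebra R A] (J : Ideal A)
    (hJ : J ^ 2 = ⊥) (ψ : S →ₐ[R] A ⧸ J) (hψ : Function.Surjective ψ)
    (k : ℕ) (hk : ∀ x ∈ maximalIdeal S ^ k, ψ x = 0)
    (hkill : ∀ a : A, ∀ s ∈ maximalIdeal S, Ideal.Quotient.mk J a = ψ s → ∀ j ∈ J, a * j = 0) :
    ∃ v : S →ₐ[R] A, (Ideal.Quotient.mkₐ R J).comp v = ψ := by
  classical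
  rcases subsingleton_or_nontrivial A with hA | hA
  · refine ⟨AlgHom.ofLinearMap 0 (Subsingleton.elim _ _) (fun _ _ => Subsingleton.elim _ _),
      AlgHom.ext fun x => ?_⟩
    have : Subsingleton (A ⧸ J) := Ideal.Quotient.mk_surjective.subsingleton
    exact Subsingleton.elim _ _
  have hnilJ : ∀ j ∈ J, j ^ 2 = 0 := fun j hj => by
    rw [← Ideal.mem_bot, ← hJ]; exact Ideal.pow_mem_pow hj 2
  have hJne : J ≠ ⊤ := fun hJt => by
    have := hnilJ 1 (hJt ▸ Submodule.mem_top)
    rw [one_pow] at this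
    exact one_ne_zero this
  have : Nontrivial (A ⧸ J) := Ideal.Quotient.nontrivial_iff.mpr hJne
  have hunit : ∀ a : A, IsUnit (Ideal.Quotient.mk J a) → IsUnit a := by
    intro a ha
    obtain ⟨b, hb⟩ := ha.exists_right_inv
    obtain ⟨b, rfl⟩ := Ideal.Quotient.mk_surjective b
    rw [← map_mul, ← map_one (Ideal.Quotient.mk J), Ideal.Quotient.eq] at hb
    refine isUnit_of_mul_isUnit_left (y := b) ?_
    have := IsNilpotent.isUnit_add_one ⟨2, hnilJ _ hb⟩
    rwa [sub_add_cancel] at this
  have : IsLocalRing (A ⧸ J) := IsLocalRing.of_surjective' ψ.toRingHom hψ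
  have hloc : IsLocalRing A := IsLocalRing.of_isUnit_or_isUnit_one_sub_self fun a => by
    rcases IsLocalRing.isUnit_or_isUnit_one_sub_self (Ideal.Quotient.mk J a) with h' | h'
    · exact Or.inl (hunit a h')
    · exact Or.inr (hunit _ (by rwa [map_sub, map_one]))
  have hm : ∀ a ∈ maximalIdeal A, ∃ s ∈ maximalIdeal S, Ideal.Quotient.mk J a = ψ s := by
    intro a ha
    obtain ⟨s, hs⟩ := hψ (Ideal.Quotient.mk J a)
    refine ⟨s, (mem_maximalIdeal s).mpr fun hsu => (mem_maximalIdeal a).mp ha (hunit a ?_), hs.symm⟩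
    rw [← hs]
    exact hsu.map ψ
  have htor : Module.IsTorsionBySet A J (maximalIdeal A : Set A) := fun j a => by
    obtain ⟨s, hs, hs'⟩ := hm a.1 a.2
    exact Subtype.ext (hkill a.1 s hs hs' j.1 j.2)
  let K := A ⧸ maximalIdeal A
  letI : Field K := Ideal.Quotient.field _
  letI : Module K J := htor.module
  haveI : IsScalarTower A K J := htor.isScalarTower
  obtain ⟨⟨ι, b⟩⟩ := Module.Free.exists_basis (R := K) (M := J)
  let I : ι → Ideal A := fun i =>
    (LinearMap.ker ((b.coord i).restrictScalars A)).map J.subtype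
  have hmemI : ∀ i (j : A) (hj : j ∈ J), j ∈ I i ↔ b.coord i ⟨j, hj⟩ = 0 := fun i j hj => by
    constructor
    · rintro ⟨⟨x, hx⟩, hx0, hxe⟩
      have : x = j := hxe
      subst this
      exact hx0
    · exact fun h0 => ⟨⟨j, hj⟩, h0, rfl⟩
  have hIJ : ∀ i, I i ≤ J := fun i => Submodule.map_subtype_le _ _
  -- lifts along the small extensions
  have key : ∀ i, ∃ χ : S →ₐ[R] A ⧸ I i,
      ∀ x, Ideal.Quotient.factor (hIJ i) (χ x) = ψ x := by
    intro i
    let C := A ⧸ I i
    let Ji : Ideal C := J.map (Ideal.Quotient.mk (I i))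
    have : Nontrivial C := Ideal.Quotient.nontrivial_iff.mpr fun ht =>
      hJne (top_le_iff.mp (ht ▸ hIJ i))
    have : IsLocalRing C := IsLocalRing.of_surjective' (Ideal.Quotient.mk (I i))
      Ideal.Quotient.mk_surjective
    let e : (C ⧸ Ji) ≃ₐ[R] A ⧸ J := DoubleQuot.quotQuotEquivQuotOfLEₐ R (hIJ i)
    have : IsLocalRing (C ⧸ Ji) := e.symm.toRingEquiv.isLocalRing
    have hJi : Ji ^ 2 = ⊥ := by rw [← Ideal.map_pow, hJ, Ideal.map_bot]
    have hmC : maximalIdeal C ≤ (maximalIdeal A).map (Ideal.Quotient.mk (I i)) := by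
      intro y hy
      obtain ⟨x, rfl⟩ := Ideal.Quotient.mk_surjective y
      exact Ideal.mem_map_of_mem _ ((mem_maximalIdeal _).mpr fun hx =>
        (mem_maximalIdeal _).mp hy (hx.map _))
    have hmA : maximalIdeal A ^ (k * 2) = ⊥ := by
      refine le_bot_iff.mp ?_
      rw [pow_mul, ← hJ]
      refine Ideal.pow_right_mono ?_ 2
      have h1 : (maximalIdeal A).map (Ideal.Quotient.mk J) ≤ (maximalIdeal S).map ψ.toRingHom := by
        rw [Ideal.map_le_iff_le_comap]
        intro a ha
        obtain ⟨s, hs, hs'⟩ := hm a ha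
        rw [Ideal.mem_comap, hs']
        exact Ideal.mem_map_of_mem ψ.toRingHom hs
      have h2 : (maximalIdeal A ^ k).map (Ideal.Quotient.mk J) = ⊥ := by
        refine le_bot_iff.mp ?_
        rw [Ideal.map_pow]
        refine (Ideal.pow_right_mono h1 k).trans ?_
        rw [← Ideal.map_pow, le_bot_iff, Ideal.map_eq_bot_iff_le_ker]
        exact fun x hx => hk x hx
      rwa [Ideal.map_eq_bot_iff_le_ker, Ideal.mk_ker] at h2
    have hnilC : maximalIdeal C ^ (k * 2) = ⊥ := by
      refine le_bot_iff.mp ((Ideal.pow_right_mono hmC _).trans ?_)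
      rw [← Ideal.map_pow, hmA, Ideal.map_bot]
    have : IsLocalHom (algebraMap R C) := by
      refine ⟨fun r hr => ?_⟩
      by_contra hru
      have hrS : algebraMap R S r ∈ maximalIdeal S :=
        (mem_maximalIdeal _).mpr fun hu => hru (IsLocalHom.map_nonunit r hu)
      have h1 : ψ (algebraMap R S r) ^ k = 0 := by
        rw [← map_pow]; exact hk _ (Ideal.pow_mem_pow hrS k)
      have h2 : IsUnit (ψ (algebraMap R S r)) := by
        rw [AlgHom.commutes]
        exact hr.map (Ideal.Quotient.factor (hIJ i))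
      exact not_isUnit_zero (h1 ▸ h2.pow k)
    let u : S →ₐ[R] C ⧸ Ji := e.symm.toAlgHom.comp ψ
    have hus : Function.Surjective u := e.symm.surjective.comp hψ
    have : IsLocalHom u.toRingHom := Function.Surjective.isLocalHom u.toRingHom hus
    have hres : Function.Bijective (ResidueField.map u.toRingHom) := by
      refine ⟨(ResidueField.map u.toRingHom).injective, fun z => ?_⟩
      obtain ⟨z, rfl⟩ := IsLocalRing.residue_surjective z
      obtain ⟨x, rfl⟩ := hus z
      exact ⟨residue S x, rfl⟩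
    have hmem : ∀ y ∈ Ji, ∃ j, ∃ hj : j ∈ J, Ideal.Quotient.mk (I i) j = y := fun y hy => by
      obtain ⟨j, hj, rfl⟩ := (Ideal.mem_map_iff_of_surjective _ Ideal.Quotient.mk_surjective).mp hy
      exact ⟨j, hj, rfl⟩
    have hsimple : IsSimpleModule C Ji := by
      rw [isSimpleModule_iff_toSpanSingleton_surjective]
      refine ⟨⟨⟨Ideal.Quotient.mk _ (b i : A), Ideal.mem_map_of_mem _ (b i).2⟩, 0, fun h0 => ?_⟩,
        fun x hx y => ?_⟩
      · have := (hmemI i _ (b i).2).mp (Ideal.Quotient.eq_zero_iff_mem.mp (congrArg Subtype.val h0))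
        simp at this
      · obtain ⟨x', hx', hxe⟩ := hmem x.1 x.2
        obtain ⟨y', hy', hye⟩ := hmem y.1 y.2
        have hc : b.coord i ⟨x', hx'⟩ ≠ 0 := fun h0 => hx (Subtype.ext (by
          rw [← hxe]; exact Ideal.Quotient.eq_zero_iff_mem.mpr ((hmemI i x' hx').mpr h0)))
        obtain ⟨a, ha⟩ := Ideal.Quotient.mk_surjective
          (b.coord i ⟨y', hy'⟩ * (b.coord i ⟨x', hx'⟩)⁻¹)
        refine ⟨Ideal.Quotient.mk _ a, Subtype.ext ?_⟩
        change Ideal.Quotient.mk _ a * x.1 = y.1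
        rw [← hxe, ← hye, ← map_mul, Ideal.Quotient.eq,
          hmemI i _ (J.sub_mem (J.mul_mem_left a hx') hy')]
        have : (⟨a * x' - y', J.sub_mem (J.mul_mem_left a hx') hy'⟩ : J) =
            (Ideal.Quotient.mk (maximalIdeal A) a) • ⟨x', hx'⟩ - ⟨y', hy'⟩ := rfl
        rw [this, map_sub, map_smul, smul_eq_mul, ha, mul_assoc, inv_mul_cancel₀ hc, mul_one,
          sub_self]
    have hlen : Module.length C Ji = 1 := Module.length_eq_one_iff.mpr hsimple
    have hart : IsNoetherianRing S → IsArtinianRing C := by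
      intro _
      have hSk : IsArtinianRing (C ⧸ Ji) := by
        have : Nontrivial (S ⧸ RingHom.ker u.toRingHom) :=
          Ideal.Quotient.nontrivial_iff.mpr (RingHom.ker_ne_top _)
        have : IsLocalRing (S ⧸ RingHom.ker u.toRingHom) :=
          IsLocalRing.of_surjective' _ Ideal.Quotient.mk_surjective
        have : IsArtinianRing (S ⧸ RingHom.ker u.toRingHom) := by
          rw [isArtinianRing_iff_isNilpotent_maximalIdeal]
          refine ⟨k, le_bot_iff.mp ?_⟩
          have : maximalIdeal (S ⧸ RingHom.ker u.toRingHom) ≤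
              (maximalIdeal S).map (Ideal.Quotient.mk _) := by
            intro y hy
            obtain ⟨x, rfl⟩ := Ideal.Quotient.mk_surjective y
            exact Ideal.mem_map_of_mem _ ((mem_maximalIdeal _).mpr fun hx =>
              (mem_maximalIdeal _).mp hy (hx.map _))
          refine (Ideal.pow_right_mono this k).trans ?_
          rw [← Ideal.map_pow, le_bot_iff, Ideal.map_eq_bot_iff_le_ker, Ideal.mk_ker]
          intro x hx
          change e.symm (ψ x) = 0
          rw [hk x hx, map_zero]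
        exact (RingHom.quotientKerEquivOfSurjective (f := u.toRingHom) hus).isArtinianRing
      have h1 : IsArtinian C (C ⧸ Ji) :=
        isArtinian_of_surjective_algebraMap (R := C ⧸ Ji) Ideal.Quotient.mk_surjective
      have h2 : IsArtinian C Ji := inferInstance
      exact isArtinian_of_range_eq_ker (Submodule.subtype Ji) (Submodule.mkQ Ji)
        (by rw [Submodule.range_subtype, Submodule.ker_mkQ])
    obtain ⟨χ, hχ⟩ := h C Ji hJi hlen ⟨k * 2, hnilC⟩ hart u hres
    refine ⟨χ, fun x => ?_⟩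
    have h1 : Ideal.Quotient.mk Ji (χ x) = e.symm (ψ x) := congrArg (fun f => f x) hχ
    have h2 := congrArg e h1
    rw [AlgEquiv.apply_symm_apply] at h2
    rw [← h2]
    obtain ⟨z, hz⟩ := Ideal.Quotient.mk_surjective (χ x)
    rw [← hz]
    rfl
  choose χ hχ using key
  -- glue along a retraction
  choose s hs using fun x => Ideal.Quotient.mk_surjective (ψ x)
  choose c hc using fun i x => Ideal.Quotient.mk_surjective (χ i x)
  have hrep : ∀ i x a, Ideal.Quotient.mk (I i) a = χ i x → a - s x ∈ J := fun i x a ha => by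
    rw [← Ideal.Quotient.eq, hs, ← hχ i x, ← ha, Ideal.Quotient.factor_mk]
  let d : S → (ι → K) := fun x i => b.coord i ⟨c i x - s x, hrep i x _ (hc i x)⟩
  have hd : ∀ i x a (ha : Ideal.Quotient.mk (I i) a = χ i x),
      d x i = b.coord i ⟨a - s x, hrep i x a ha⟩ := by
    intro i x a ha
    have hmem : c i x - a ∈ I i := Ideal.Quotient.eq.mp ((hc i x).trans ha.symm)
    have h0 := (hmemI i _ (hIJ i hmem)).mp hmem
    rw [← sub_eq_zero, ← map_sub, ← h0]
    congr 1
    exact Subtype.ext (sub_sub_sub_cancel_right _ _ _)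
  let L : J →ₗ[K] (ι → K) := LinearMap.pi b.coord
  obtain ⟨r, hr⟩ := LinearMap.exists_leftInverse_of_injective L
    (LinearMap.ker_eq_bot'.mpr fun j hj => b.ext_elem fun i => by
      simpa [L] using congr_fun hj i)
  have hrL : ∀ j, r (L j) = j := fun j => LinearMap.congr_fun hr j
  let v : S → A := fun x => s x + (r (d x) : A)
  have hvψ : ∀ x, Ideal.Quotient.mk J (v x) = ψ x := fun x => by
    rw [map_add, hs, Ideal.Quotient.eq_zero_iff_mem.mpr (r (d x)).2, add_zero]
  have hadd : ∀ x y, v (x + y) = v x + v y := by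
    intro x y
    have hj : s x + s y - s (x + y) ∈ J := by
      rw [← Ideal.Quotient.eq, map_add, hs, hs, hs, map_add]
    have hd' : d (x + y) = d x + d y + L ⟨_, hj⟩ := by
      funext i
      rw [hd i (x + y) (c i x + c i y) (by rw [map_add, hc, hc, map_add])]
      simp only [Pi.add_apply, L, LinearMap.pi_apply, d, ← map_add]
      congr 1
      exact Subtype.ext (by simp only [Submodule.coe_add]; ring)
    simp only [v, hd', map_add, hrL, Submodule.coe_add]
    ring
  have hmul : ∀ x y, v (x * y) = v x * v y := by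
    intro x y
    have hj : s x * s y - s (x * y) ∈ J := by
      rw [← Ideal.Quotient.eq, map_mul (Ideal.Quotient.mk J), hs, hs, hs, map_mul ψ]
    have hd' : d (x * y) = Ideal.Quotient.mk (maximalIdeal A) (s x) • d y +
        Ideal.Quotient.mk (maximalIdeal A) (s y) • d x + L ⟨_, hj⟩ := by
      funext i
      rw [hd i (x * y) (c i x * c i y) (by rw [map_mul, hc, hc, map_mul])]
      simp only [Pi.add_apply, Pi.smul_apply, L, LinearMap.pi_apply, d, ← map_smul, ← map_add]
      congr 1
      refine Subtype.ext ?_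
      have h0 : (c i x - s x) * (c i y - s y) = 0 := by
        rw [← Ideal.mem_bot, ← hJ, sq]
        exact Ideal.mul_mem_mul (hrep i x _ (hc i x)) (hrep i y _ (hc i y))
      change c i x * c i y - s (x * y) =
        s x * (c i y - s y) + s y * (c i x - s x) + (s x * s y - s (x * y))
      linear_combination h0
    simp only [v, hd', map_add, map_smul, hrL, Submodule.coe_add]
    have h1 : (r (d x) : A) * (r (d y) : A) = 0 := by
      rw [← Ideal.mem_bot, ← hJ, sq]; exact Ideal.mul_mem_mul (r (d x)).2 (r (d y)).2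
    have h2 : ∀ (a : A) (z : J), ((Ideal.Quotient.mk (maximalIdeal A) a • z : J) : A) = a * z :=
      fun _ _ => rfl
    rw [h2, h2]
    linear_combination -h1
  have hcomm : ∀ q : R, v (algebraMap R S q) = algebraMap R A q := by
    intro q
    have hj : algebraMap R A q - s (algebraMap R S q) ∈ J := by
      rw [← Ideal.Quotient.eq, hs, AlgHom.commutes]; rfl
    have hd' : d (algebraMap R S q) = L ⟨_, hj⟩ := by
      funext i
      rw [hd i (algebraMap R S q) (algebraMap R A q) (by rw [AlgHom.commutes]; rfl)]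
      rfl
    simp only [v, hd', hrL]
    ring
  refine ⟨
    { toFun := v
      map_one' := ?_
      map_mul' := hmul
      map_zero' := ?_
      map_add' := hadd
      commutes' := hcomm }, AlgHom.ext hvψ⟩
  · rw [← map_one (algebraMap R S), hcomm, map_one]
  · rw [← map_zero (algebraMap R S), hcomm, map_zero]

/-- Small-extension lifting gives lifting along all square-zero ideals for maps killing a power of
the maximal ideal. -/
theorem lift_of_smallLifting (h : SmallLifting R S) {A : Type u} [CommRing A] [Algebra R A]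
    (J : Ideal A) (hJ : J ^ 2 = ⊥) (ψ : S →ₐ[R] A ⧸ J)
    (hψ : ∃ k : ℕ, ∀ x ∈ maximalIdeal S ^ k, ψ x = 0) :
    ∃ v : S →ₐ[R] A, (Ideal.Quotient.mkₐ R J).comp v = ψ := by
  suffices ∀ (i : ℕ) (A : Type u) [CommRing A] [Algebra R A] (J : Ideal A), J ^ 2 = ⊥ →
      ∀ ψ : S →ₐ[R] A ⧸ J, (∃ k : ℕ, ∀ x ∈ maximalIdeal S ^ k, ψ x = 0) →
      ((maximalIdeal S).map ψ.toRingHom).comap (Ideal.Quotient.mk J) ^ i * J = ⊥ →
        ∃ v : S →ₐ[R] A, (Ideal.Quotient.mkₐ R J).comp v = ψ by
    obtain ⟨k, hk⟩ := hψ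
    refine this (k * 2) A J hJ ψ ⟨k, hk⟩ ?_
    have h0 : (((maximalIdeal S).map ψ.toRingHom).comap (Ideal.Quotient.mk J)) ^ (k * 2) = ⊥ := by
      refine le_bot_iff.mp ?_
      rw [pow_mul]
      refine (Ideal.pow_right_mono (J := J) ?_ 2).trans hJ.le
      have : ((((maximalIdeal S).map ψ.toRingHom).comap (Ideal.Quotient.mk J)) ^ k).map
          (Ideal.Quotient.mk J) = ⊥ := by
        rw [Ideal.map_pow, Ideal.map_comap_of_surjective _ Ideal.Quotient.mk_surjective,
          ← Ideal.map_pow, Ideal.map_eq_bot_iff_le_ker]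
        exact fun x hx => hk x hx
      rwa [Ideal.map_eq_bot_iff_le_ker, Ideal.mk_ker] at this
    rw [h0, Ideal.bot_mul]
  intro i
  induction i with
  | zero =>
    intro A _ _ J _ ψ _ hJ0
    rw [pow_zero, one_mul] at hJ0
    subst hJ0
    refine ⟨(AlgEquiv.quotientBot R A).toAlgHom.comp ψ, AlgHom.ext fun x => ?_⟩
    obtain ⟨c, hc⟩ := Ideal.Quotient.mk_surjective (ψ x)
    simp [← hc]
  | succ i ih =>
    intro A _ _ J hJ ψ hψ hJi
    let N := ((maximalIdeal S).map ψ.toRingHom).comap (Ideal.Quotient.mk J)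
    let J₁ : Ideal A := N * J
    have hle : J₁ ≤ J := Ideal.mul_le_right
    let J' : Ideal (A ⧸ J₁) := J.map (Ideal.Quotient.mk J₁)
    let e : ((A ⧸ J₁) ⧸ J') ≃ₐ[R] A ⧸ J := DoubleQuot.quotQuotEquivQuotOfLEₐ R hle
    have hJ'2 : J' ^ 2 = ⊥ := by rw [← Ideal.map_pow, hJ, Ideal.map_bot]
    -- restrict to the preimage of the range
    let A' : Subalgebra R (A ⧸ J₁) :=
      ((e.symm.toAlgHom.comp ψ).range).comap (Ideal.Quotient.mkₐ R J')
    let J'' : Ideal A' := J'.comap A'.val
    let π : A' →ₐ[R] (A ⧸ J₁) ⧸ J' := (Ideal.Quotient.mkₐ R J').comp A'.val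
    let π' : (A' ⧸ J'') →ₐ[R] (A ⧸ J₁) ⧸ J' :=
      Ideal.Quotient.liftₐ J'' π fun a ha => Ideal.Quotient.eq_zero_iff_mem.mpr ha
    have hπ' : Function.Injective π' := by
      rw [injective_iff_map_eq_zero]
      intro z hz
      obtain ⟨z, rfl⟩ := Ideal.Quotient.mk_surjective z
      exact Ideal.Quotient.eq_zero_iff_mem.mpr (Ideal.Quotient.eq_zero_iff_mem.mp hz :)
    have hrange : ∀ x, e.symm (ψ x) ∈ π'.range := by
      intro x
      obtain ⟨a, ha⟩ := Ideal.Quotient.mk_surjective (e.symm (ψ x))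
      exact ⟨Ideal.Quotient.mk J'' ⟨a, ⟨x, ha.symm⟩⟩, ha⟩
    let ψ' : S →ₐ[R] A' ⧸ J'' := (AlgEquiv.ofInjective π' hπ').symm.toAlgHom.comp
      ((e.symm.toAlgHom.comp ψ).codRestrict _ hrange)
    have hψ' : ∀ x, π' (ψ' x) = e.symm (ψ x) := fun x => congrArg Subtype.val
      ((AlgEquiv.ofInjective π' hπ').apply_symm_apply
        ((e.symm.toAlgHom.comp ψ).codRestrict _ hrange x))
    have hψ's : Function.Surjective ψ' := by
      intro z
      obtain ⟨z, rfl⟩ := Ideal.Quotient.mk_surjective z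
      obtain ⟨x, hx⟩ := z.2
      exact ⟨x, hπ' ((hψ' x).trans hx)⟩
    obtain ⟨k, hk⟩ := hψ
    have hJ''2 : J'' ^ 2 = ⊥ := by
      rw [eq_bot_iff, sq, Ideal.mul_le]
      intro a ha c hc
      rw [Ideal.mem_bot]
      refine Subtype.ext (?_ : (a : A ⧸ J₁) * c = 0)
      rw [← Ideal.mem_bot, ← hJ'2, sq]
      exact Ideal.mul_mem_mul ha hc
    obtain ⟨v', hv'⟩ := lift_of_small h J'' hJ''2 ψ' hψ's k (fun x hx => hπ' (by
      rw [hψ', hk x hx, map_zero, map_zero])) (by
      intro a t ht hat j hj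
      refine Subtype.ext (?_ : (a : A ⧸ J₁) * j = 0)
      obtain ⟨a₀, ha₀⟩ := Ideal.Quotient.mk_surjective (a : A ⧸ J₁)
      obtain ⟨j₀, hj₀, hj₀'⟩ :=
        (Ideal.mem_map_iff_of_surjective _ Ideal.Quotient.mk_surjective).mp hj
      have hj₀'' : Ideal.Quotient.mk J₁ j₀ = (j : A ⧸ J₁) := hj₀'
      rw [← ha₀, ← hj₀'', ← map_mul,
        Ideal.Quotient.eq_zero_iff_mem]
      refine Ideal.mul_mem_mul ?_ hj₀
      rw [Ideal.mem_comap]
      have h1 : Ideal.Quotient.mk J' (a : A ⧸ J₁) = e.symm (ψ t) :=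
        (congrArg π' hat).trans (hψ' t)
      rw [← ha₀] at h1
      have h2 := congrArg e h1
      rw [AlgEquiv.apply_symm_apply] at h2
      rw [show Ideal.Quotient.mk J a₀ = ψ t from h2]
      exact Ideal.mem_map_of_mem ψ.toRingHom ht)
    let v₁ : S →ₐ[R] A ⧸ J₁ := A'.val.comp v'
    have hv₁ : ∀ x, Ideal.Quotient.mk J' (v₁ x) = e.symm (ψ x) := fun x => by
      rw [← hψ', ← congrArg (fun f => f x) hv']
      rfl
    have hv₁' : ∀ x, Ideal.Quotient.factor hle (v₁ x) = ψ x := fun x => by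
      have h2 := congrArg e (hv₁ x)
      rw [AlgEquiv.apply_symm_apply] at h2
      rw [← h2]
      obtain ⟨z, hz⟩ := Ideal.Quotient.mk_surjective (v₁ x)
      rw [← hz]
      rfl
    have hJ₁ : J₁ ^ 2 = ⊥ := le_bot_iff.mp ((Ideal.pow_right_mono hle 2).trans hJ.le)
    have hN₁ : ((maximalIdeal S).map v₁.toRingHom).comap (Ideal.Quotient.mk J₁) ≤ N := by
      intro a ha
      rw [Ideal.mem_comap] at ha ⊢
      have h1 := Ideal.mem_map_of_mem (Ideal.Quotient.factor hle) ha
      rw [Ideal.map_map, Ideal.Quotient.factor_mk] at h1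
      have h3 : (Ideal.Quotient.factor hle).comp v₁.toRingHom = ψ.toRingHom :=
        RingHom.ext hv₁'
      rwa [h3] at h1
    obtain ⟨v, hv⟩ := ih A J₁ hJ₁ v₁
      (vanish_of_lift ⟨2, hJ'2⟩ v₁ _ (AlgHom.ext hv₁ :
        (Ideal.Quotient.mkₐ R J').comp v₁ = e.symm.toAlgHom.comp ψ) (maximalIdeal S)
        ⟨k, fun x hx => by simp [hk x hx]⟩)
      (le_bot_iff.mp ((Ideal.mul_mono_left (Ideal.pow_right_mono hN₁ i)).trans
        (by rw [← mul_assoc, ← pow_succ, hJi])))
    refine ⟨v, AlgHom.ext fun x => ?_⟩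
    rw [← hv₁' x, ← congrArg (fun f => f x) hv]
    rfl

/-- Small-extension lifting implies adic formal smoothness. -/
theorem isAdicFormallySmooth_of_smallLifting (h : SmallLifting R S) :
    CAlgX.IsAdicFormallySmooth R S (maximalIdeal S) :=
  fun _ _ _ J hJ ψ hψ => lift_of_smallLifting h J hJ ψ hψ

/-- Small-extension lifting implies formal smoothness for the adic topologies. -/
theorem isFormallySmoothAdic_of_smallLifting (h : SmallLifting R S) (𝔞 : Ideal R) :
    EGA41.IsFormallySmoothAdic R 𝔞 S (maximalIdeal S) :=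
  of_sq_zero 𝔞 _ fun _ _ _ J hJ _ ψ hψ => lift_of_smallLifting h J hJ ψ hψ

/-- A local map into a local algebra with nilpotent maximal ideal kills a power of the maximal
ideal. -/
theorem exists_pow_vanish {C : Type u} [CommRing C] [IsLocalRing C] (f : S →+* C) [IsLocalHom f]
    (hC : ∃ n : ℕ, maximalIdeal C ^ n = ⊥) : ∃ n : ℕ, ∀ x ∈ maximalIdeal S ^ n, f x = 0 := by
  obtain ⟨n, hn⟩ := hC
  refine ⟨n, fun x hx => ?_⟩
  have h1 := Ideal.mem_map_of_mem f hx
  rw [Ideal.map_pow] at h1
  have h2 := Ideal.pow_right_mono (IsLocalRing.map_maximalIdeal_le f) n h1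
  rwa [hn, Ideal.mem_bot] at h2

/-- A lift of a local map along a nilpotent ideal is local. -/
theorem isLocalHom_of_lift {C : Type u} [CommRing C] (J : Ideal C) (f : S →+* C)
    (g : S →+* C ⧸ J) [IsLocalHom g] (hfg : (Ideal.Quotient.mk J).comp f = g) : IsLocalHom f :=
  ⟨fun x hx => IsLocalHom.map_nonunit (f := g) x (by rw [← hfg]; exact hx.map (Ideal.Quotient.mk J))⟩

/-- Quotient maps of local rings by a nilpotent maximal ideal preserve nilpotency. -/
theorem exists_maximalIdeal_quotient_pow {C : Type u} [CommRing C] [IsLocalRing C] (J : Ideal C)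
    [IsLocalRing (C ⧸ J)] (hC : ∃ n : ℕ, maximalIdeal C ^ n = ⊥) :
    ∃ n : ℕ, maximalIdeal (C ⧸ J) ^ n = ⊥ := by
  obtain ⟨n, hn⟩ := hC
  refine ⟨n, le_bot_iff.mp ((Ideal.pow_right_mono (J := (maximalIdeal C).map
    (Ideal.Quotient.mk J)) ?_ n).trans ?_)⟩
  · intro y hy
    obtain ⟨x, rfl⟩ := Ideal.Quotient.mk_surjective y
    exact Ideal.mem_map_of_mem _ ((mem_maximalIdeal _).mpr fun hx =>
      (mem_maximalIdeal _).mp hy (hx.map _))
  · rw [← Ideal.map_pow, hn, Ideal.map_bot]

end Groth.Agent.FSAdic
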