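import Groth.Prelude.Def_CAlgX
import Mathlib

/-! Formal smoothness of a quotient of a formally smooth algebra, for adic topologies: the conormal
map has to split modulo an ideal of definition. -/

set_option autoImplicit false

open TensorProduct KaehlerDifferential

namespace Groth.Agent.FSAdic

universe u

variable {A B : Type u} [CommRing A] [CommRing B] [Algebra A B]

/-- Formal smoothness of the quotient gives a retraction of the conormal map modulo `Q`. -/
theorem exists_retraction_of_isAdicFormallySmooth [IsNoetherianRing B] {C : Type u} [CommRing C]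
    [Algebra A C] [Algebra B C] [IsScalarTower A B C] (hsurj : Function.Surjective (algebraMap B C))
    (I : Ideal B) (h : CAlgX.IsAdicFormallySmooth A C (I.map (algebraMap B C)))
    (Q : Ideal C) (hQ : ∃ n : ℕ, (I.map (algebraMap B C)) ^ n ≤ Q) :
    ∃ g : (C ⧸ Q) ⊗[B] (C ⊗[B] Ω[B⁄A]) →ₗ[C ⧸ Q]
        (C ⧸ Q) ⊗[B] (RingHom.ker (algebraMap B C)).Cotangent,
      g ∘ₗ LinearMap.baseChange (C ⧸ Q) (kerCotangentToTensor A B C) = LinearMap.id := by
  classical
  set J := RingHom.ker (algebraMap B C) with hJdef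
  obtain ⟨n, hn⟩ := hQ
  let 𝔔 : Ideal B := Q.comap (algebraMap B C)
  have hI𝔔 : I ^ n ≤ 𝔔 := fun x hx => hn (Ideal.map_pow (algebraMap B C) I n ▸ Ideal.mem_map_of_mem _ hx)
  have hJ𝔔 : J ≤ 𝔔 := fun x hx => by
    rw [Ideal.mem_comap, RingHom.mem_ker.mp hx]; exact Q.zero_mem
  -- Artin–Rees
  obtain ⟨c, hc⟩ := I.exists_pow_inf_eq_pow_smul (M := B) J
  set m := n + c with hm
  have hAR : I ^ m ⊓ J ≤ 𝔔 * J := by
    have h1 := hc m (by omega)
    rw [smul_eq_mul, Ideal.mul_top, show m - c = n by omega, smul_eq_mul] at h1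
    rw [h1]
    exact Ideal.mul_mono hI𝔔 inf_le_right
  let K : Ideal B := 𝔔 * J ⊔ I ^ m
  let T := B ⧸ K
  let L : Ideal T := J.map (Ideal.Quotient.mk K)
  have hL2 : L ^ 2 = ⊥ := by
    rw [← Ideal.map_pow, Ideal.map_eq_bot_iff_le_ker, Ideal.mk_ker, sq]
    exact le_sup_of_le_left (Ideal.mul_mono_left hJ𝔔)
  let q : B →ₐ[A] T ⧸ L := (Ideal.Quotient.mkₐ A L).comp (Ideal.Quotient.mkₐ A K)
  have hqJ : ∀ x ∈ J, q x = 0 := fun x hx =>
    Ideal.Quotient.eq_zero_iff_mem.mpr (Ideal.mem_map_of_mem _ hx)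
  choose σ hσ using hsurj
  have hqσ : ∀ b, q (σ (algebraMap B C b)) = q b := fun b => by
    rw [← sub_eq_zero, ← map_sub]
    exact hqJ _ (by rw [hJdef, RingHom.mem_ker, map_sub, hσ, sub_self])
  let ψ : C →ₐ[A] T ⧸ L :=
    { toFun := fun y => q (σ y)
      map_one' := by rw [← map_one (algebraMap B C), hqσ, map_one]
      map_mul' := fun x y => by
        rw [← map_mul q, ← hqσ (σ x * σ y), map_mul (algebraMap B C), hσ, hσ]
      map_zero' := by rw [← map_zero (algebraMap B C), hqσ, map_zero]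
      map_add' := fun x y => by
        rw [← map_add q, ← hqσ (σ x + σ y), map_add (algebraMap B C), hσ, hσ]
      commutes' := fun a => by
        rw [IsScalarTower.algebraMap_apply A B C, hqσ, AlgHom.commutes] }
  have hψq : ∀ b, ψ (algebraMap B C b) = q b := hqσ
  obtain ⟨χ, hχ⟩ := h T L hL2 ψ ⟨m, fun y hy => by
    rw [← Ideal.map_pow] at hy
    obtain ⟨x, hx, rfl⟩ := (Ideal.mem_map_iff_of_surjective _ fun c => ⟨σ c, hσ c⟩).mp hy
    rw [hψq]
    change Ideal.Quotient.mk L (Ideal.Quotient.mk K x) = 0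
    rw [Ideal.Quotient.eq_zero_iff_mem.mpr (Ideal.mem_sup_right hx : x ∈ K), map_zero]⟩
  -- `L` as a `B`-submodule of `T`
  let ι : J →ₗ[B] T := (Submodule.mkQ K) ∘ₗ (Submodule.subtype J)
  let ε : J →ₗ[B] (C ⧸ Q) ⊗[B] J.Cotangent :=
    (TensorProduct.mk B (C ⧸ Q) J.Cotangent 1) ∘ₗ J.toCotangent
  have hkerι : LinearMap.ker ι ≤ LinearMap.ker ε := by
    rintro ⟨x, hx⟩ hxι
    have hxK : x ∈ K := (Submodule.Quotient.mk_eq_zero _).mp hxι
    obtain ⟨y, hy, z, hz, hyz⟩ := Submodule.mem_sup.mp hxK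
    have hyJ : y ∈ J := Ideal.mul_le_right hy
    have hzJ : z ∈ I ^ m ⊓ J := ⟨hz, by
      have : z = x - y := by rw [← hyz]; ring
      rw [this]; exact J.sub_mem hx hyJ⟩
    have hx2 : x ∈ 𝔔 * J := hyz ▸ add_mem hy (hAR hzJ)
    have key : ∀ w ∈ 𝔔 * J, ∃ hw : w ∈ J, ε ⟨w, hw⟩ = 0 := by
      intro w hw
      induction hw using Submodule.mul_induction_on' with
      | mem_mul_mem a ha b hb =>
        refine ⟨J.mul_mem_left a hb, ?_⟩
        have : (⟨a * b, J.mul_mem_left a hb⟩ : J) = a • ⟨b, hb⟩ := rfl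
        rw [this, map_smul]
        simp only [ε, LinearMap.coe_comp, Function.comp_apply, TensorProduct.mk_apply]
        rw [TensorProduct.smul_tmul', Algebra.smul_def, mul_one,
          IsScalarTower.algebraMap_apply B C (C ⧸ Q), Ideal.Quotient.algebraMap_eq,
          (Ideal.Quotient.eq_zero_iff_mem (I := Q)).mpr (Ideal.mem_comap.mp ha), zero_tmul]
      | add a _ b _ h1 h2 =>
        obtain ⟨ha, ha'⟩ := h1
        obtain ⟨hb, hb'⟩ := h2
        refine ⟨J.add_mem ha hb, ?_⟩
        rw [show (⟨a + b, J.add_mem ha hb⟩ : J) = ⟨a, ha⟩ + ⟨b, hb⟩ from rfl, map_add, ha', hb',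
          add_zero]
    exact (key x hx2).2
  let θ : LinearMap.range ι →ₗ[B] (C ⧸ Q) ⊗[B] J.Cotangent :=
    ((LinearMap.ker ι).liftQ ε hkerι) ∘ₗ ι.quotKerEquivRange.symm.toLinearMap
  have hθ : ∀ x : J, θ ⟨ι x, LinearMap.mem_range_self ι x⟩ = ε x := fun x => by
    have : ι.quotKerEquivRange.symm ⟨ι x, LinearMap.mem_range_self ι x⟩ =
        Submodule.Quotient.mk x := by
      rw [LinearEquiv.symm_apply_eq]
      exact Subtype.ext rfl
    simp only [θ, LinearMap.coe_comp, LinearEquiv.coe_coe, Function.comp_apply, this]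
    rfl
  have hDmem : ∀ b, Ideal.Quotient.mk K b - χ (algebraMap B C b) ∈ LinearMap.range ι := by
    intro b
    have h1 : Ideal.Quotient.mk K b - χ (algebraMap B C b) ∈ L := by
      rw [← Ideal.Quotient.eq]
      exact ((congrArg (fun f => f (algebraMap B C b)) hχ).trans (hψq b)).symm
    obtain ⟨x, hx, hxe⟩ := (Ideal.mem_map_iff_of_surjective _ Ideal.Quotient.mk_surjective).mp h1
    exact ⟨⟨x, hx⟩, hxe⟩
  have hLann : ∀ (b : B) (z : T), z ∈ LinearMap.range ι →
      χ (algebraMap B C b) * z = Ideal.Quotient.mk K b * z := by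
    intro b z hz
    obtain ⟨x, rfl⟩ := hz
    obtain ⟨w, hw⟩ := hDmem b
    rw [← sub_eq_zero, ← sub_mul, ← neg_sub, ← hw, neg_mul, neg_eq_zero, ← Ideal.mem_bot, ← hL2, sq]
    exact Ideal.mul_mem_mul (Ideal.mem_map_of_mem _ w.2) (Ideal.mem_map_of_mem _ x.2)
  let D₀ : B →ₗ[A] LinearMap.range ι :=
    { toFun := fun b => ⟨_, hDmem b⟩
      map_add' := fun a b => Subtype.ext (by
        change Ideal.Quotient.mk K (a + b) - χ (algebraMap B C (a + b)) = _
        rw [map_add, map_add, map_add]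
        simp only [Submodule.coe_add]
        ring)
      map_smul' := fun a b => Subtype.ext (by
        change Ideal.Quotient.mk K (a • b) - χ (algebraMap B C (a • b)) =
          a • (Ideal.Quotient.mk K b - χ (algebraMap B C b))
        rw [smul_sub, ← map_smul χ, Algebra.smul_def a (algebraMap B C b), Algebra.smul_def a b,
          map_mul (algebraMap B C), ← IsScalarTower.algebraMap_apply A B C, Algebra.smul_def a,
          map_mul (Ideal.Quotient.mk K)]
        rfl) }
  let D : Derivation A B (LinearMap.range ι) := Derivation.mk' D₀ fun a b => Subtype.ext (by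
    change Ideal.Quotient.mk K (a * b) - χ (algebraMap B C (a * b)) =
      Ideal.Quotient.mk K a * (Ideal.Quotient.mk K b - χ (algebraMap B C b)) +
        Ideal.Quotient.mk K b * (Ideal.Quotient.mk K a - χ (algebraMap B C a))
    have h1 := hLann a _ (hDmem b)
    rw [map_mul, map_mul, map_mul]
    linear_combination h1)
  refine ⟨((θ ∘ₗ D.liftKaehlerDifferential).liftBaseChange C |>.restrictScalars B).liftBaseChange
    (C ⧸ Q), ?_⟩
  refine TensorProduct.AlgebraTensorModule.ext fun a y => ?_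
  obtain ⟨⟨x, hx⟩, rfl⟩ := Ideal.toCotangent_surjective _ y
  have hD : D x = ⟨ι ⟨x, hx⟩, LinearMap.mem_range_self ι _⟩ := Subtype.ext (by
    change Ideal.Quotient.mk K x - χ (algebraMap B C x) = _
    rw [RingHom.mem_ker.mp hx, map_zero, sub_zero]
    rfl)
  simp only [LinearMap.coe_comp, Function.comp_apply, LinearMap.baseChange_tmul,
    LinearMap.liftBaseChange_tmul, LinearMap.coe_restrictScalars, kerCotangentToTensor_toCotangent,
    Derivation.liftKaehlerDifferential_comp_D, one_smul, LinearMap.id_coe, id_eq]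
  rw [hD, hθ]
  simp only [ε, LinearMap.coe_comp, Function.comp_apply, TensorProduct.mk_apply]
  rw [TensorProduct.smul_tmul', smul_eq_mul, mul_one]

/-- A map with a retraction modulo a nilpotent ideal has a retraction. -/
theorem exists_retraction_of_nilpotent {R M N : Type u} [CommRing R] [AddCommGroup M] [Module R M]
    [AddCommGroup N] [Module R N] (𝔮 : Ideal R) (h𝔮 : IsNilpotent 𝔮) (φ : M →ₗ[R] N)
    (g : N →ₗ[R] M) (hg : ∀ x, g (φ x) - x ∈ 𝔮 • (⊤ : Submodule R M)) :
    ∃ l : N →ₗ[R] M, l ∘ₗ φ = LinearMap.id := by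
  let e : Module.End R M := 1 - g ∘ₗ φ
  have he : ∀ x, e x ∈ 𝔮 • (⊤ : Submodule R M) := fun x => by
    have := Submodule.neg_mem _ (hg x)
    rwa [neg_sub] at this
  have hpow : ∀ (j : ℕ) x, (e ^ j) x ∈ 𝔮 ^ j • (⊤ : Submodule R M) := by
    intro j
    induction j with
    | zero => intro x; simp
    | succ j ih =>
      intro x
      rw [pow_succ e, Module.End.mul_apply]
      have h1 : (e ^ j) (e x) ∈ Submodule.map (e ^ j) (𝔮 • (⊤ : Submodule R M)) :=
        Submodule.mem_map_of_mem (he x)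
      rw [Submodule.map_smul''] at h1
      have h2 : Submodule.map (e ^ j) ⊤ ≤ 𝔮 ^ j • (⊤ : Submodule R M) := by
        rintro _ ⟨y, -, rfl⟩
        exact ih y
      have h3 := Submodule.smul_mono (le_refl 𝔮) h2 h1
      rwa [← Submodule.mul_smul, ← pow_succ'] at h3
  obtain ⟨k, hk⟩ := h𝔮
  have hnil : IsNilpotent e := ⟨k, LinearMap.ext fun x => by
    have := hpow k x
    rw [hk, Submodule.zero_eq_bot, Submodule.bot_smul, Submodule.mem_bot] at this
    exact this⟩
  obtain ⟨w, hw⟩ := hnil.isUnit_one_sub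
  refine ⟨(↑w⁻¹ : Module.End R M) ∘ₗ g, ?_⟩
  have hgφ : g ∘ₗ φ = (w : Module.End R M) := by rw [hw]; exact (sub_sub_cancel _ _).symm
  rw [LinearMap.comp_assoc, hgφ]
  exact w.inv_mul

/-- A retraction of the conormal map modulo an ideal of definition gives formal smoothness of the
quotient. -/
theorem isAdicFormallySmooth_quotient_of_retraction (I J : Ideal B)
    (hB : CAlgX.IsAdicFormallySmooth A B I)
    (hproj : ∀ 𝔄 : Ideal B, (∃ n : ℕ, I ^ n ≤ 𝔄) → Module.Projective (B ⧸ 𝔄) ((B ⧸ 𝔄) ⊗[B] Ω[B⁄A]))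
    (Q : Ideal (B ⧸ J)) (hQ : ∃ n : ℕ, (I.map (Ideal.Quotient.mk J)) ^ n ≤ Q)
    (hQ' : ∃ m : ℕ, Q ^ m ≤ I.map (Ideal.Quotient.mk J))
    (g : ((B ⧸ J) ⧸ Q) ⊗[B] ((B ⧸ J) ⊗[B] Ω[B⁄A]) →ₗ[(B ⧸ J) ⧸ Q]
        ((B ⧸ J) ⧸ Q) ⊗[B] (RingHom.ker (algebraMap B (B ⧸ J))).Cotangent)
    (hg : g ∘ₗ LinearMap.baseChange ((B ⧸ J) ⧸ Q) (kerCotangentToTensor A B (B ⧸ J)) = LinearMap.id) :
    CAlgX.IsAdicFormallySmooth A (B ⧸ J) (I.map (Ideal.Quotient.mk J)) := by
  classical
  intro T _ _ L hL ψ hψ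
  obtain ⟨k₀, hk₀⟩ := hψ
  obtain ⟨n, hn⟩ := hQ
  obtain ⟨m, hm⟩ := hQ'
  set k := max k₀ n
  obtain ⟨v, hv⟩ := hB T L hL (ψ.comp (Ideal.Quotient.mkₐ A J)) ⟨k, fun x hx => by
    refine hk₀ _ ?_
    rw [← Ideal.map_pow]
    exact Ideal.mem_map_of_mem _ (Ideal.pow_le_pow_right (le_max_left _ _) hx)⟩
  have hvψ : ∀ b, Ideal.Quotient.mk L (v b) = ψ (Ideal.Quotient.mk J b) :=
    fun b => congrArg (fun f => f b) hv
  have hLL : ∀ a ∈ L, ∀ b ∈ L, a * b = 0 := fun a ha b hb => by
    rw [← Ideal.mem_bot, ← hL, sq]; exact Ideal.mul_mem_mul ha hb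
  let K : Ideal B := J ⊔ I ^ k
  have hvK : ∀ b ∈ K, v b ∈ L := by
    intro b hb
    rw [← Ideal.Quotient.eq_zero_iff_mem, hvψ]
    obtain ⟨j, hj, i, hi, rfl⟩ := Submodule.mem_sup.mp hb
    rw [map_add, Ideal.Quotient.eq_zero_iff_mem.mpr hj, zero_add]
    refine hk₀ _ ?_
    rw [← Ideal.map_pow]
    exact Ideal.mem_map_of_mem _ (Ideal.pow_le_pow_right (le_max_left _ _) hi)
  let R := B ⧸ K
  let S := (B ⧸ J) ⧸ Q
  let 𝔔 : Ideal B := Q.comap (Ideal.Quotient.mk J)
  have hK𝔔 : K ≤ 𝔔 := by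
    refine sup_le (fun x hx => ?_) (fun x hx => ?_)
    · rw [Ideal.mem_comap, Ideal.Quotient.eq_zero_iff_mem.mpr hx]; exact Q.zero_mem
    · refine hn ?_
      rw [← Ideal.map_pow]
      exact Ideal.mem_map_of_mem _ (Ideal.pow_le_pow_right (le_max_right _ _) hx)
  let p : R →ₐ[B] S := Ideal.Quotient.liftₐ K
    ((Ideal.Quotient.mkₐ B Q).comp (Ideal.Quotient.mkₐ B J))
    fun x hx => Ideal.Quotient.eq_zero_iff_mem.mpr (hK𝔔 hx)
  have hps : Function.Surjective p := fun z => by
    obtain ⟨z, rfl⟩ := Ideal.Quotient.mk_surjective z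
    obtain ⟨b, rfl⟩ := Ideal.Quotient.mk_surjective z
    exact ⟨Ideal.Quotient.mk K b, rfl⟩
  letI : Algebra R S := p.toRingHom.toAlgebra
  haveI : IsScalarTower B R S := IsScalarTower.of_algebraMap_eq fun b => (p.commutes b).symm
  let 𝔮 : Ideal R := 𝔔.map (Ideal.Quotient.mk K)
  have h𝔮 : IsNilpotent 𝔮 := by
    refine ⟨m * k, le_bot_iff.mp ?_⟩
    rw [← Ideal.map_pow, pow_mul]
    refine (Ideal.map_mono (Ideal.pow_right_mono (?_ : 𝔔 ^ m ≤ J ⊔ I) k)).trans
      ((Ideal.map_mono (?_ : (J ⊔ I) ^ k ≤ K)).trans (Ideal.map_quotient_self K).le)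
    · intro x hx
      have h1 := Ideal.mem_map_of_mem (Ideal.Quotient.mk J) hx
      rw [Ideal.map_pow, Ideal.map_comap_of_surjective _ Ideal.Quotient.mk_surjective] at h1
      have h2 := hm h1
      rw [← Ideal.mem_comap, Ideal.comap_map_of_surjective _ Ideal.Quotient.mk_surjective,
        ← RingHom.ker_eq_comap_bot, Ideal.mk_ker] at h2
      rwa [sup_comm]
    · clear_value k
      have h1 : ∀ j : ℕ, (J ⊔ I) ^ j ≤ J ⊔ I ^ j := by
        intro j
        induction j with
        | zero => simp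
        | succ j ih =>
          rw [pow_succ, pow_succ]
          refine (Ideal.mul_mono_left ih).trans ?_
          rw [Ideal.mul_sup, Ideal.sup_mul J (I ^ j) I]
          exact sup_le (le_sup_of_le_left Ideal.mul_le_right)
            (sup_le (le_sup_of_le_left Ideal.mul_le_left) le_sup_right)
      exact h1 k
  let M := (RingHom.ker (algebraMap B (B ⧸ J))).Cotangent
  let N := (B ⧸ J) ⊗[B] Ω[B⁄A]
  let φ : M →ₗ[B] N := kerCotangentToTensor A B (B ⧸ J)
  haveI : Module.Projective R (R ⊗[B] N) := by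
    haveI := hproj K ⟨k, le_sup_right⟩
    let τ : (B ⧸ J) →ₐ[B] R := Ideal.Quotient.factorₐ B le_sup_left
    let f : R ⊗[B] Ω[B⁄A] →ₗ[R] R ⊗[B] N := (TensorProduct.mk B (B ⧸ J) Ω[B⁄A] 1).baseChange R
    let f' : R ⊗[B] N →ₗ[R] R ⊗[B] Ω[B⁄A] :=
      LinearMap.liftBaseChange R (τ.toLinearMap.rTensor Ω[B⁄A])
    have hτ1 : ∀ ω : Ω[B⁄A], f' ((1 : R) ⊗ₜ[B] ((1 : B ⧸ J) ⊗ₜ[B] ω)) = (1 : R) ⊗ₜ[B] ω := fun ω => by
      simp only [f', LinearMap.liftBaseChange_tmul, one_smul]
      exact congrArg (· ⊗ₜ[B] ω) (map_one τ)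
    refine Module.Projective.of_equiv (LinearEquiv.ofLinear f f' ?_ ?_)
    · refine TensorProduct.AlgebraTensorModule.ext fun a z => ?_
      induction z using TensorProduct.induction_on with
      | zero => simp
      | add x y hx hy => simp only [tmul_add, map_add, hx, hy]
      | tmul c ω =>
        obtain ⟨b, rfl⟩ := Ideal.Quotient.mk_surjective c
        have e1 : (Ideal.Quotient.mk J b) ⊗ₜ[B] ω = b • ((1 : B ⧸ J) ⊗ₜ[B] ω) := by
          rw [TensorProduct.smul_tmul', Algebra.smul_def, mul_one]; rfl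
        rw [e1, TensorProduct.tmul_smul, LinearMap.map_smul_of_tower, LinearMap.map_smul_of_tower]
        congr 1
        rw [LinearMap.comp_apply, show a ⊗ₜ[B] ((1 : B ⧸ J) ⊗ₜ[B] ω) =
          a • ((1 : R) ⊗ₜ[B] ((1 : B ⧸ J) ⊗ₜ[B] ω)) by rw [TensorProduct.smul_tmul', smul_eq_mul,
            mul_one], map_smul, hτ1]
        simp only [f, LinearMap.coe_comp, Function.comp_apply, LinearMap.liftBaseChange_tmul,
          LinearMap.rTensor_tmul, AlgHom.toLinearMap_apply, map_one, map_smul,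
          LinearMap.baseChange_tmul, TensorProduct.mk_apply, TensorProduct.smul_tmul', smul_eq_mul,
          mul_one, LinearMap.id_coe, id_eq]
    · refine TensorProduct.AlgebraTensorModule.ext fun a z => ?_
      rw [LinearMap.comp_apply, show f (a ⊗ₜ[B] z) = a • ((1 : R) ⊗ₜ[B] ((1 : B ⧸ J) ⊗ₜ[B] z)) by
        rw [TensorProduct.smul_tmul', smul_eq_mul, mul_one]; rfl, map_smul, hτ1]
      simp only [f, f', LinearMap.coe_comp, Function.comp_apply, LinearMap.liftBaseChange_tmul,
          LinearMap.rTensor_tmul, AlgHom.toLinearMap_apply, map_one, map_smul,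
          LinearMap.baseChange_tmul, TensorProduct.mk_apply, TensorProduct.smul_tmul', smul_eq_mul,
          mul_one, LinearMap.id_coe, id_eq]
  let pM : R ⊗[B] M →ₗ[B] S ⊗[B] M := p.toLinearMap.rTensor M
  let pN : R ⊗[B] N →ₗ[B] S ⊗[B] N := p.toLinearMap.rTensor N
  have hsR : Function.Surjective (algebraMap B R) := Ideal.Quotient.mk_surjective
  let pM' : R ⊗[B] M →ₗ[R] S ⊗[B] M := LinearMap.extendScalarsOfSurjective hsR pM
  let pN' : R ⊗[B] N →ₗ[R] S ⊗[B] N := LinearMap.extendScalarsOfSurjective hsR pN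
  obtain ⟨g', hg'⟩ := Module.projective_lifting_property pM' ((g.restrictScalars R) ∘ₗ pN')
    (LinearMap.rTensor_surjective M (g := p.toLinearMap) hps)
  obtain ⟨l, hl⟩ := exists_retraction_of_nilpotent 𝔮 h𝔮 (φ.baseChange R) g' fun x => by
    have h1 : pM (g' (φ.baseChange R x) - x) = 0 := by
      have h2 : pN (φ.baseChange R x) = φ.baseChange S (pM x) := by
        induction x using TensorProduct.induction_on with
        | zero => simp
        | tmul a y => simp [pM, pN]
        | add a b ha hb => simp only [map_add, ha, hb]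
      have h3 : pM (g' (φ.baseChange R x)) = g (pN (φ.baseChange R x)) :=
        LinearMap.congr_fun hg' (φ.baseChange R x)
      rw [map_sub, h3, h2, sub_eq_zero]
      exact LinearMap.congr_fun hg (pM x)
    have hex : Function.Exact
        ((LinearMap.ker p.toLinearMap).subtype.rTensor M) pM :=
      rTensor_exact M (LinearMap.exact_subtype_ker_map _) hps
    obtain ⟨y, hy⟩ := (hex _).mp h1
    rw [← hy]
    clear hy h1
    induction y using TensorProduct.induction_on with
    | zero => simp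
    | tmul a z =>
      have ha : (a : R) ∈ 𝔮 := by
        obtain ⟨b, hb⟩ := Ideal.Quotient.mk_surjective (a : R)
        rw [← hb]
        refine Ideal.mem_map_of_mem _ ?_
        have h5 : p (a : R) = 0 := a.2
        rw [← hb] at h5
        exact Ideal.mem_comap.mpr ((Ideal.Quotient.eq_zero_iff_mem (I := Q)).mp h5)
      have : (LinearMap.ker p.toLinearMap).subtype.rTensor M (a ⊗ₜ z) =
          (a : R) • ((1 : R) ⊗ₜ[B] z) := by
        rw [TensorProduct.smul_tmul', smul_eq_mul, mul_one]; rfl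
      rw [this]
      exact Submodule.smul_mem_smul ha Submodule.mem_top
    | add a b ha hb => rw [map_add]; exact add_mem ha hb
  -- the derivation correcting `v`
  letI : Module R L := by
    letI : Module B L := Module.compHom L v.toRingHom
    refine Module.IsTorsionBySet.module (R := B) (I := K) (M := L) ?_
    intro z b
    exact Subtype.ext (hLL _ (hvK b.1 b.2) _ z.2)
  letI : Module B L := Module.compHom L v.toRingHom
  haveI : IsScalarTower B R L := .of_algebraMap_smul fun b z => rfl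
  haveI : IsScalarTower A B L := .of_algebraMap_smul fun a z => Subtype.ext (by
    change v (algebraMap A B a) * (z : T) = a • (z : T)
    rw [AlgHom.commutes, Algebra.smul_def])
  have hvJ : ∀ x ∈ RingHom.ker (algebraMap B (B ⧸ J)), v x ∈ L := fun x hx =>
    hvK x (Ideal.mem_sup_left (Ideal.Quotient.eq_zero_iff_mem.mp hx))
  let δ₀ : RingHom.ker (algebraMap B (B ⧸ J)) →ₗ[B] L :=
    { toFun := fun x => ⟨v x, hvJ x x.2⟩
      map_add' := fun a b => Subtype.ext (map_add v _ _)
      map_smul' := fun a b => Subtype.ext (map_mul v _ _) }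
  let δ : M →ₗ[B] L := Submodule.liftQ _ δ₀ (by
    refine Submodule.smul_le.mpr fun a ha x _ => ?_
    rw [LinearMap.mem_ker]
    exact Subtype.ext ((map_mul v a x).trans (hLL _ (hvJ a ha) _ (hvJ x x.2))))
  let h : N →ₗ[B] L :=
    ((δ.liftBaseChange R) ∘ₗ l).restrictScalars B ∘ₗ TensorProduct.mk B R N 1
  have hhφ : ∀ y, h (φ y) = δ y := fun y => by
    have := LinearMap.congr_fun hl ((1 : R) ⊗ₜ[B] y)
    rw [LinearMap.comp_apply, LinearMap.baseChange_tmul, LinearMap.id_apply] at this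
    simp only [h, LinearMap.coe_comp, LinearMap.coe_restrictScalars, Function.comp_apply,
      TensorProduct.mk_apply, this, LinearMap.liftBaseChange_tmul, one_smul]
  let D : Derivation A B L :=
    (h ∘ₗ TensorProduct.mk B (B ⧸ J) Ω[B⁄A] 1).compDer (KaehlerDifferential.D A B)
  let v' : B →ₐ[A] T :=
    AlgHom.ofLinearMap (v.toLinearMap -
        ((L.restrictScalars A).subtype ∘ₗ (D : B →ₗ[A] L)))
      (by
        change v 1 - ((D 1 : L) : T) = 1
        rw [Derivation.map_one_eq_zero, map_one, ZeroMemClass.coe_zero, sub_zero])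
      (fun a b => by
        change v (a * b) - ((D (a * b) : L) : T) =
          (v a - ((D a : L) : T)) * (v b - ((D b : L) : T))
        rw [Derivation.leibniz, map_mul]
        change v a * v b - (v a * ((D b : L) : T) + v b * ((D a : L) : T)) = _
        linear_combination -(hLL _ (D a).2 _ (D b).2))
  have hv'J : ∀ x ∈ J, v' x = 0 := fun x hx => by
    have hx' : x ∈ RingHom.ker (algebraMap B (B ⧸ J)) := Ideal.Quotient.eq_zero_iff_mem.mpr hx
    have h1 : D x = ⟨v x, hvJ x hx'⟩ :=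
      (hhφ ((RingHom.ker (algebraMap B (B ⧸ J))).toCotangent ⟨x, hx'⟩)).trans rfl
    change v x - ((D x : L) : T) = 0
    rw [h1, sub_self]
  refine ⟨Ideal.Quotient.liftₐ J v' hv'J, AlgHom.ext fun c => ?_⟩
  obtain ⟨b, rfl⟩ := Ideal.Quotient.mk_surjective c
  change Ideal.Quotient.mk L (v b - ((D b : L) : T)) = _
  rw [map_sub, Ideal.Quotient.eq_zero_iff_mem.mpr (D b).2, sub_zero, hvψ]

end Groth.Agent.FSAdic
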