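import Mathlib.RingTheory.Ideal.Quotient.Nilpotent
import Mathlib.RingTheory.Kaehler.Basic
import Mathlib.RingTheory.AdicCompletion.Basic
import Mathlib.RingTheory.AdicCompletion.Completeness

/-! Formally unramified algebras for adic topologies. -/

set_option autoImplicit false

open TensorProduct

namespace Groth.Agent.FSAdic

universe u

variable {A B : Type u} [CommRing A] [CommRing B] [Algebra A B]

open KaehlerDifferential

/-- continuous maps agreeing modulo a nilpotent ideal agree if `𝔟 • Ω = Ω` -/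
theorem algHom_eq_of_smul_top_eq (𝔟 : Ideal B) (h : 𝔟 • (⊤ : Submodule B Ω[B⁄A]) = ⊤)
    {E : Type u} [CommRing E] [Algebra A E] (J : Ideal E) (hJ : IsNilpotent J)
    (v₁ v₂ : B →ₐ[A] E) (h₁ : ∃ m : ℕ, ∀ x ∈ 𝔟 ^ m, v₁ x = 0)
    (h₂ : ∀ b : B, Ideal.Quotient.mk J (v₁ b) = Ideal.Quotient.mk J (v₂ b)) : v₁ = v₂ := by
  revert v₁ v₂
  revert ‹Algebra A E›
  apply Ideal.IsNilpotent.induction_on (S := E) J hJ
  · intro S _ I hI _ v₁ v₂ h₁ h₂
    obtain ⟨m, hm⟩ := h₁
    letI := v₁.toRingHom.toAlgebra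
    haveI : IsScalarTower A B S := IsScalarTower.of_algebraMap_eq fun a => (v₁.commutes a).symm
    have hmem : ∀ b, v₂ b - v₁ b ∈ I := fun b => Ideal.Quotient.eq.mp (h₂ b).symm
    have hII : ∀ x ∈ I, ∀ y ∈ I, x * y = 0 := fun x hx y hy => by
      rw [← Ideal.mem_bot, ← hI, sq]
      exact Ideal.mul_mem_mul hx hy
    let D : Derivation A B (I.restrictScalars B : Submodule B S) :=
      Derivation.mk'
        { toFun := fun b => ⟨v₂ b - v₁ b, hmem b⟩
          map_add' := fun a b => Subtype.ext (by simp; ring)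
          map_smul' := fun a b => Subtype.ext (by
            simp only [map_smul, RingHom.id_apply]
            change a • v₂ b - a • v₁ b = ((a • ⟨v₂ b - v₁ b, hmem b⟩ : (I.restrictScalars B)) : S)
            rw [Submodule.coe_smul_of_tower, smul_sub]) }
        (fun a b => Subtype.ext (by
          simp only [LinearMap.coe_mk, AddHom.coe_mk, map_mul, Submodule.coe_add,
            Submodule.coe_smul, Algebra.smul_def, RingHom.algebraMap_toAlgebra,
            AlgHom.toRingHom_eq_coe, RingHom.coe_coe]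
          linear_combination hII _ (hmem a) _ (hmem b)))
    have hpow : ∀ k, (𝔟 ^ k) • (⊤ : Submodule B Ω[B⁄A]) = ⊤ := by
      intro k
      induction k with
      | zero => simp
      | succ k ih => rw [pow_succ, Submodule.mul_smul, h, ih]
    have hzero : ∀ ω : Ω[B⁄A], D.liftKaehlerDifferential ω = 0 := by
      intro ω
      refine Submodule.smul_induction_on ((hpow m).ge (trivial : ω ∈ ⊤)) (fun r hr n _ => ?_)
        (fun x y hx hy => by rw [map_add, hx, hy, add_zero])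
      refine Subtype.ext ?_
      rw [map_smul, Submodule.coe_smul, Algebra.smul_def, RingHom.algebraMap_toAlgebra]
      change v₁ r * _ = 0
      rw [hm r hr, zero_mul]
    refine AlgHom.ext fun b => ?_
    have := congrArg Subtype.val (hzero (KaehlerDifferential.D A B b))
    rw [Derivation.liftKaehlerDifferential_comp_D] at this
    exact (sub_eq_zero.mp this).symm
  · intro S _ I J hIJ hI hJ _ v₁ v₂ h₁ h₂
    refine hI v₁ v₂ h₁ fun b => ?_
    refine congrArg (fun f => f b) (hJ ((Ideal.Quotient.mkₐ A I).comp v₁)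
      ((Ideal.Quotient.mkₐ A I).comp v₂) ?_ fun c => ?_)
    · obtain ⟨m, hm⟩ := h₁
      exact ⟨m, fun x hx => by simp [hm x hx]⟩
    · rw [AlgHom.comp_apply, AlgHom.comp_apply, Ideal.Quotient.mkₐ_eq_mk, Ideal.Quotient.eq,
        ← map_sub]
      exact Ideal.mem_map_of_mem _ (Ideal.Quotient.eq.mp (h₂ c))

lemma toCotangent_mem_smul {T : Type*} [CommRing T] (I L : Ideal T) :
    ∀ y ∈ I ^ 2 ⊔ L * I, ∀ hy : y ∈ I, I.toCotangent ⟨y, hy⟩ ∈ L • (⊤ : Submodule T I.Cotangent) := by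
  intro y hy hyI
  obtain ⟨i, hi, t, ht, rfl⟩ := Submodule.mem_sup.mp hy
  have hiI : i ∈ I := Ideal.pow_le_self two_ne_zero hi
  have htI : t ∈ I := (Ideal.mul_le.mpr fun r _ s hs => I.mul_mem_left r hs : L * I ≤ I) ht
  have e : (⟨i + t, hyI⟩ : I) = ⟨i, hiI⟩ + ⟨t, htI⟩ := rfl
  rw [e, map_add, (I.toCotangent_eq_zero _).mpr hi, zero_add]
  have hmem : (⟨t, htI⟩ : I) ∈ L • (⊤ : Submodule T I) := by
    have h' : ((⊤ : Submodule T I).map I.subtype) = I := by simp
    have hh : t ∈ (L • (⊤ : Submodule T I)).map I.subtype := by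
      rw [Submodule.map_smul'', h', smul_eq_mul]; exact ht
    obtain ⟨w, hw, hwt⟩ := hh
    obtain rfl : w = ⟨t, htI⟩ := Subtype.ext hwt
    exact hw
  have h2 := Submodule.mem_map_of_mem (f := I.toCotangent) hmem
  rw [Submodule.map_smul''] at h2
  exact Submodule.smul_mono le_rfl le_top h2

lemma mem_smul_of_mem_map_smul {T : Type*} [CommRing T] [Algebra B T] (𝔟 : Ideal B)
    {M : Type*} [AddCommGroup M] [Module B M] [Module T M] [IsScalarTower B T M] {x : M}
    (h : x ∈ 𝔟.map (algebraMap B T) • (⊤ : Submodule T M))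
    : x ∈ 𝔟 • (⊤ : Submodule B M) := by
  refine Submodule.smul_induction_on h (fun l hl m _ => ?_) (fun a b ha hb => add_mem ha hb)
  revert m
  refine Submodule.span_induction ?_ ?_ ?_ ?_ hl
  · rintro _ ⟨y, hy, rfl⟩ m -
    rw [algebraMap_smul]
    exact Submodule.smul_mem_smul hy trivial
  · intro m _; rw [zero_smul]; exact zero_mem _
  · intro a b _ _ ha hb m hm; rw [add_smul]; exact add_mem (ha m hm) (hb m hm)
  · intro a b _ hb m _; rw [smul_eq_mul, mul_comm, mul_smul]; exact hb _ trivial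

set_option maxHeartbeats 1600000 in
/-- if continuous maps are determined modulo nilpotent ideals then `𝔟 • Ω = Ω` -/
theorem smul_top_eq_of_algHom_eq (𝔞 : Ideal A) (𝔟 : Ideal B)
    (hAB : ∃ k : ℕ, (𝔞 ^ k).map (algebraMap A B) ≤ 𝔟)
    (h : ∀ (E : Type u) [CommRing E] [Algebra A E], (∃ k : ℕ, (𝔞 ^ k).map (algebraMap A E) = ⊥) →
      ∀ J : Ideal E, IsNilpotent J → ∀ v₁ v₂ : B →ₐ[A] E,
        (∃ m : ℕ, ∀ x ∈ 𝔟 ^ m, v₁ x = 0) → (∃ m : ℕ, ∀ x ∈ 𝔟 ^ m, v₂ x = 0) →
        (∀ b : B, Ideal.Quotient.mk J (v₁ b) = Ideal.Quotient.mk J (v₂ b)) → v₁ = v₂) :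
    𝔟 • (⊤ : Submodule B Ω[B⁄A]) = ⊤ := by
  set I := KaehlerDifferential.ideal A B
  set L : Ideal (B ⊗[A] B) := 𝔟.map (algebraMap B (B ⊗[A] B)) with hL
  set K : Ideal (B ⊗[A] B) := I ^ 2 ⊔ L
  set mkK := Ideal.Quotient.mkₐ A K
  let v₁ : B →ₐ[A] (B ⊗[A] B) ⧸ K := mkK.comp Algebra.TensorProduct.includeLeft
  let v₂ : B →ₐ[A] (B ⊗[A] B) ⧸ K := mkK.comp Algebra.TensorProduct.includeRight
  have hI : IsNilpotent (I.map mkK) := by
    refine ⟨2, le_bot_iff.mp ?_⟩
    rw [← Ideal.map_pow, Ideal.map_le_iff_le_comap]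
    intro x hx
    exact Ideal.Quotient.eq_zero_iff_mem.mpr (Ideal.mem_sup_left hx)
  have hv₁ : ∀ x ∈ 𝔟, v₁ x = 0 := fun x hx => Ideal.Quotient.eq_zero_iff_mem.mpr
    (Ideal.mem_sup_right (Ideal.mem_map_of_mem _ hx))
  have hdiff : ∀ b, v₂ b - v₁ b ∈ I.map mkK := fun b => by
    rw [AlgHom.comp_apply, AlgHom.comp_apply, ← map_sub]
    exact Ideal.mem_map_of_mem _ (KaehlerDifferential.one_smul_sub_smul_one_mem_ideal A b)
  have hE : ∃ k : ℕ, (𝔞 ^ k).map (algebraMap A ((B ⊗[A] B) ⧸ K)) = ⊥ := by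
    obtain ⟨k, hk⟩ := hAB
    refine ⟨k, le_bot_iff.mp (Ideal.map_le_iff_le_comap.mpr fun a ha => ?_)⟩
    rw [Ideal.mem_comap, Ideal.mem_bot, ← v₁.commutes a]
    exact hv₁ _ (hk (Ideal.mem_map_of_mem _ ha))
  have heq := h _ hE (I.map mkK) hI v₁ v₂ ⟨1, fun x hx => hv₁ x (by rwa [pow_one] at hx)⟩
    ⟨2, fun x hx => by
      have h1 : (𝔟.map v₂) ≤ I.map mkK := Ideal.map_le_iff_le_comap.mpr fun y hy => by
        have := hdiff y
        rwa [hv₁ y hy, sub_zero] at this
      have h2 := Ideal.pow_right_mono h1 2 (Ideal.map_pow v₂ 𝔟 2 ▸ Ideal.mem_map_of_mem v₂ hx)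
      rw [← Ideal.map_pow] at h2
      have h3 : (I ^ 2).map mkK = ⊥ := le_bot_iff.mp (Ideal.map_le_iff_le_comap.mpr fun z hz =>
        Ideal.Quotient.eq_zero_iff_mem.mpr (Ideal.mem_sup_left hz))
      rwa [h3, Ideal.mem_bot] at h2⟩
    (fun b => (Ideal.Quotient.eq.mpr (hdiff b)).symm)
  have hker : ∀ z ∈ I, z ∈ K → z ∈ I ^ 2 ⊔ L * I := by
    intro z hzI hzK
    obtain ⟨i, hi, t, ht, rfl⟩ := Submodule.mem_sup.mp hzK
    have htI : t ∈ I := by
      simpa using I.sub_mem hzI (Ideal.pow_le_self two_ne_zero hi)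
    refine Ideal.add_mem _ (Ideal.mem_sup_left hi) (Ideal.mem_sup_right ?_)
    have hπ : ∀ w ∈ L, w - algebraMap B (B ⊗[A] B) (Algebra.TensorProduct.lmul' A w) ∈ L * I := by
      intro w hw
      refine Submodule.span_induction ?_ ?_ ?_ ?_ (hL ▸ hw : w ∈ 𝔟.map (algebraMap B (B ⊗[A] B)))
      · rintro _ ⟨x, _, rfl⟩
        simp [Algebra.TensorProduct.algebraMap_apply]
      · simp
      · intro x y _ _ hx hy
        convert Ideal.add_mem _ hx hy using 1
        rw [map_add, map_add]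
        ring
      · intro c x hxm hx
        set g := Algebra.TensorProduct.lmul' A (S := B)
        have hxL : algebraMap B (B ⊗[A] B) (g x) ∈ L := by
          refine Ideal.mem_map_of_mem _ ?_
          refine Submodule.span_induction ?_ ?_ ?_ ?_ hxm
          · rintro _ ⟨y, hy, rfl⟩
            simpa [g, Algebra.TensorProduct.algebraMap_apply] using hy
          · simp
          · intro a b _ _ ha hb
            rw [map_add]; exact Ideal.add_mem _ ha hb
          · intro a b _ hb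
            rw [smul_eq_mul, map_mul]; exact Ideal.mul_mem_left _ _ hb
        have hc : c - algebraMap B (B ⊗[A] B) (g c) ∈ I := by
          rw [RingHom.mem_ker, map_sub]
          simp [g, Algebra.TensorProduct.algebraMap_apply]
        convert Ideal.add_mem _ (Ideal.mul_mem_left _ c hx) (Ideal.mul_mem_mul hxL hc) using 1
        rw [smul_eq_mul, map_mul, map_mul]
        ring
    have h0 : Algebra.TensorProduct.lmul' A t = 0 := htI
    have := hπ t ht
    rwa [h0, map_zero, sub_zero] at this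
  rw [eq_top_iff]
  refine (KaehlerDifferential.span_range_derivation A B).ge.trans (Submodule.span_le.mpr ?_)
  rintro _ ⟨b, rfl⟩
  set z : I := ⟨1 ⊗ₜ b - b ⊗ₜ 1, KaehlerDifferential.one_smul_sub_smul_one_mem_ideal A b⟩
  have hz : (z : B ⊗[A] B) ∈ I ^ 2 ⊔ L * I := hker _ z.2 (by
    have := congrArg (fun f => f b) heq
    exact Ideal.Quotient.eq.mp this.symm)
  have h1 := toCotangent_mem_smul I L _ hz z.2
  exact mem_smul_of_mem_map_smul (T := B ⊗[A] B) 𝔟 (M := Ω[B⁄A]) h1

theorem subsingleton_adicCompletion_iff (𝔟 : Ideal B) (M : Type*) [AddCommGroup M] [Module B M] :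
    Subsingleton (AdicCompletion 𝔟 M) ↔ 𝔟 • (⊤ : Submodule B M) = ⊤ := by
  constructor
  · intro h
    have : Subsingleton (M ⧸ (𝔟 ^ 1 • ⊤ : Submodule B M)) :=
      (AdicCompletion.eval_surjective 𝔟 M 1).subsingleton
    rw [Submodule.Quotient.subsingleton_iff, pow_one] at this
    exact this
  · intro h
    have hpow : ∀ n, (𝔟 ^ n • ⊤ : Submodule B M) = ⊤ := by
      intro n
      induction n with
      | zero => simp
      | succ k ih => rw [pow_succ, Submodule.mul_smul, h, ih]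
    refine ⟨fun x y => AdicCompletion.ext fun n => ?_⟩
    have : Subsingleton (M ⧸ (𝔟 ^ n • ⊤ : Submodule B M)) :=
      Submodule.Quotient.subsingleton_iff.mpr (hpow n)
    exact Subsingleton.elim _ _

theorem subsingleton_kaehler_quotient_iff (𝔪 : Ideal A) :
    Subsingleton (Ω[B ⧸ 𝔪.map (algebraMap A B)⁄A ⧸ 𝔪]) ↔
      𝔪.map (algebraMap A B) • (⊤ : Submodule B Ω[B⁄A]) = ⊤ := by
  set 𝔟 := 𝔪.map (algebraMap A B)
  set f := KaehlerDifferential.map A (A ⧸ 𝔪) B (B ⧸ 𝔟)
  constructor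
  · intro h
    let Q := Ω[B⁄A] ⧸ (𝔟 • ⊤ : Submodule B Ω[B⁄A])
    let d : Derivation A B Q :=
      (Submodule.mkQ (𝔟 • ⊤ : Submodule B Ω[B⁄A])).compDer (KaehlerDifferential.D A B)
    have hd : ∀ x ∈ 𝔟, d x = 0 := by
      intro x hx
      refine Submodule.span_induction ?_ ?_ ?_ ?_ hx
      · rintro _ ⟨a, _, rfl⟩; exact d.map_algebraMap a
      · exact map_zero d
      · intro a b _ _ ha hb; rw [map_add, ha, hb, add_zero]
      · intro a b hb hd'
        rw [smul_eq_mul, Derivation.leibniz, hd', smul_zero, zero_add]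
        obtain ⟨q, hq⟩ := Submodule.mkQ_surjective _ (d a)
        rw [← hq, ← map_smul, Submodule.mkQ_apply, Submodule.Quotient.mk_eq_zero]
        exact Submodule.smul_mem_smul hb trivial
    let d₀ : (B ⧸ 𝔟) →+ Q := QuotientAddGroup.lift 𝔟.toAddSubgroup d.toLinearMap.toAddMonoidHom hd
    have hd₀ : ∀ b, d₀ (Ideal.Quotient.mk 𝔟 b) = d b := fun b => rfl
    let _ : Module (A ⧸ 𝔪) Q := Module.compHom Q (algebraMap (A ⧸ 𝔪) (B ⧸ 𝔟))
    haveI : IsScalarTower (A ⧸ 𝔪) (B ⧸ 𝔟) Q := ⟨fun a b q => by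
      rw [Algebra.smul_def, mul_smul]; rfl⟩
    let D₀ : Derivation (A ⧸ 𝔪) (B ⧸ 𝔟) Q :=
      Derivation.mk'
        { d₀ with
          map_smul' := fun a b => by
            obtain ⟨a, rfl⟩ := Ideal.Quotient.mk_surjective a
            obtain ⟨b, rfl⟩ := Ideal.Quotient.mk_surjective b
            rw [Algebra.smul_def, Ideal.Quotient.algebraMap_quotient_map_quotient, ← map_mul,
              RingHom.id_apply]
            change d (algebraMap A B a * b) = algebraMap A B a • d b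
            rw [Derivation.leibniz, d.map_algebraMap, smul_zero, add_zero] }
        (fun a b => by
          obtain ⟨a, rfl⟩ := Ideal.Quotient.mk_surjective a
          obtain ⟨b, rfl⟩ := Ideal.Quotient.mk_surjective b
          change d₀ (Ideal.Quotient.mk 𝔟 (a * b)) =
            a • d₀ (Ideal.Quotient.mk 𝔟 b) + b • d₀ (Ideal.Quotient.mk 𝔟 a)
          rw [hd₀, hd₀, hd₀, Derivation.leibniz])
    rw [eq_top_iff]
    refine (KaehlerDifferential.span_range_derivation A B).ge.trans (Submodule.span_le.mpr ?_)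
    rintro _ ⟨b, rfl⟩
    have : D₀ (Ideal.Quotient.mk 𝔟 b) = 0 := by
      rw [← D₀.liftKaehlerDifferential_comp_D, Subsingleton.elim (KaehlerDifferential.D _ _ _) 0,
        map_zero]
    exact (Submodule.Quotient.mk_eq_zero _).mp this
  · intro h
    have hs : Function.Surjective f := by
      intro ω
      have htop : (⊤ : Submodule (B ⧸ 𝔟) (Ω[B ⧸ 𝔟⁄A ⧸ 𝔪])) = Submodule.span _ (Set.range
        (KaehlerDifferential.D (A ⧸ 𝔪) (B ⧸ 𝔟))) :=
        (KaehlerDifferential.span_range_derivation _ _).symm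
      have hω : ω ∈ Submodule.span (B ⧸ 𝔟) (Set.range (KaehlerDifferential.D (A ⧸ 𝔪) (B ⧸ 𝔟))) :=
        htop ▸ Submodule.mem_top
      refine Submodule.span_induction ?_ ?_ ?_ ?_ hω
      · rintro _ ⟨b, rfl⟩
        obtain ⟨b, rfl⟩ := Ideal.Quotient.mk_surjective b
        exact ⟨KaehlerDifferential.D A B b, KaehlerDifferential.map_D _ _ _ _ b⟩
      · exact ⟨0, map_zero f⟩
      · rintro _ _ _ _ ⟨a, rfl⟩ ⟨b, rfl⟩; exact ⟨a + b, map_add f a b⟩
      · rintro c _ _ ⟨a, rfl⟩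
        obtain ⟨c, rfl⟩ := Ideal.Quotient.mk_surjective c
        exact ⟨c • a, by rw [map_smul]; exact (algebraMap_smul (B ⧸ 𝔟) c (f a)).symm⟩
    refine subsingleton_of_forall_eq 0 fun ω => ?_
    obtain ⟨a, rfl⟩ := hs ω
    refine Submodule.smul_induction_on (h.ge (trivial : a ∈ ⊤)) (fun r hr m _ => ?_)
      (fun x y hx hy => by rw [map_add, hx, hy, add_zero])
    rw [map_smul, ← algebraMap_smul (B ⧸ 𝔟) r (f m), Ideal.Quotient.algebraMap_eq,
      Ideal.Quotient.eq_zero_iff_mem.mpr hr, zero_smul]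

end Groth.Agent.FSAdic
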